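import Mathlib

/-!
Integer matrices `N` with `N ^ 2 = 8 N` whose kernel vectors have even coordinate sum.
-/

set_option autoImplicit false

namespace Cfsg.Lib.KKL.AltM

variable {ι : Type*} [DecidableEq ι] {s : Finset ι} {N : ι → ι → ℤ}

theorem three (sym : ∀ i j, N i j = N j i) (sq : ∀ i j, ∑ k ∈ s, N i k * N k j = 8 * N i j)
    (ev : ∀ a : ι → ℤ, (∀ j, ∑ i ∈ s, a i * N i j = 0) → Even (∑ i ∈ s, a i))
    {o i j : ι} (ho : o ∈ s) (hi : i ∈ s) (hj : j ∈ s) (x y : ℤ) (hxy : ¬ Even (1 - x - y)) :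
    0 < N o o + x ^ 2 * N i i + y ^ 2 * N j j - 2 * x * N o i - 2 * y * N o j +
      2 * x * y * N i j := by
  have h1 : ∑ k ∈ s, (N o k - x * N i k - y * N j k) ^ 2 = 8 * (N o o + x ^ 2 * N i i +
      y ^ 2 * N j j - 2 * x * N o i - 2 * y * N o j + 2 * x * y * N i j) := by
    have e : ∀ k, (N o k - x * N i k - y * N j k) ^ 2 = N o k * N k o + x ^ 2 * (N i k * N k i) +
        y ^ 2 * (N j k * N k j) - 2 * x * (N o k * N k i) - 2 * y * (N o k * N k j) +
        2 * x * y * (N i k * N k j) := fun k => by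
      rw [sym k o, sym k i, sym k j]; ring
    simp only [e, Finset.sum_add_distrib, Finset.sum_sub_distrib, ← Finset.mul_sum, sq]
    ring
  have h2 : 0 ≤ ∑ k ∈ s, (N o k - x * N i k - y * N j k) ^ 2 :=
    Finset.sum_nonneg fun k _ => sq_nonneg _
  by_contra h3
  have h4 : ∑ k ∈ s, (N o k - x * N i k - y * N j k) ^ 2 = 0 := by omega
  rw [Finset.sum_eq_zero_iff_of_nonneg fun k _ => sq_nonneg _] at h4
  have h5 : ∀ k, N o k - x * N i k - y * N j k = 0 := fun k => by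
    have h6 : ∑ l ∈ s, (N o l - x * N i l - y * N j l) * N l k = 0 :=
      Finset.sum_eq_zero fun l hl => by rw [pow_eq_zero_iff two_ne_zero |>.1 (h4 l hl), zero_mul]
    simp only [sub_mul, mul_assoc, Finset.sum_sub_distrib, ← Finset.mul_sum, sq] at h6
    linarith
  have h7 := ev (fun k => (if k = o then 1 else 0) - x * (if k = i then 1 else 0) -
    y * (if k = j then 1 else 0)) fun k => by
      simp only [sub_mul, mul_assoc, Finset.sum_sub_distrib, ← Finset.mul_sum, ite_mul, one_mul,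
        zero_mul, Finset.sum_ite_eq', ho, hi, hj, if_true]
      exact h5 k
  simp only [Finset.sum_sub_distrib, ← Finset.mul_sum, Finset.sum_ite_eq', ho, hi, hj, if_true,
    mul_one] at h7
  exact hxy h7

omit [DecidableEq ι] in
theorem eq_of_le {t : Finset ι} {f : ι → ℤ} {c : ℤ} (h1 : ∀ i ∈ t, c ≤ f i)
    (h2 : ∑ i ∈ t, f i ≤ t.card * c) : ∀ i ∈ t, f i = c := by
  have h3 : ∑ i ∈ t, (f i - c) = 0 := by
    have h4 : 0 ≤ ∑ i ∈ t, (f i - c) := Finset.sum_nonneg fun i hi => sub_nonneg.2 (h1 i hi)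
    rw [Finset.sum_sub_distrib, Finset.sum_const, nsmul_eq_mul] at h4 ⊢
    omega
  rw [Finset.sum_eq_zero_iff_of_nonneg fun i hi => sub_nonneg.2 (h1 i hi)] at h3
  exact fun i hi => sub_eq_zero.1 (h3 i hi)

theorem pure (H : ι → Prop) [DecidablePred H] {r : ℕ}
    (sym : ∀ i j, N i j = N j i) (sq : ∀ i j, ∑ k ∈ s, N i k * N k j = 8 * N i j)
    (ev : ∀ a : ι → ℤ, (∀ j, ∑ i ∈ s, a i * N i j = 0) → Even (∑ i ∈ s, a i))
    (od : ∀ i ∈ s, ∀ j ∈ s, Odd (N i j) ↔ H i ∧ H j) (pos : ∀ i ∈ s, 0 < N i i)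
    (four : ∀ i ∈ s, ¬ H i → N i i = 4) (ne : ∀ i ∈ s, ∀ j ∈ s, H i → N i j ≠ 0)
    (tr : ∑ i ∈ s, N i i = 8 * r) (hr : r = 1 ∨ r = 3)
    (hc : r * (s.filter H).card + 4 * (s.filter fun i => ¬ H i).card = 8 * r)
    (hH : ∃ i ∈ s, H i) : ∀ i ∈ s, H i := by
  intro o ho
  by_contra hno
  obtain ⟨i, hi, hHi⟩ := hH
  have hiH : i ∈ s.filter H := Finset.mem_filter.2 ⟨hi, hHi⟩
  have hoH : o ∈ s.filter fun i => ¬ H i := Finset.mem_filter.2 ⟨ho, hno⟩
  have c0 := Finset.card_pos.2 ⟨i, hiH⟩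
  have c1 := Finset.card_pos.2 ⟨o, hoH⟩
  have k0 : (s.filter H).card = 4 := by rcases hr with rfl | rfl <;> omega
  have t1 : ∑ i ∈ s.filter H, N i i = 4 * r := by
    rw [← Finset.sum_filter_add_sum_filter_not s H, Finset.sum_congr rfl
      fun i (hi : i ∈ s.filter fun i => ¬ H i) =>
        four i (Finset.mem_filter.1 hi).1 (Finset.mem_filter.1 hi).2, Finset.sum_const,
      nsmul_eq_mul] at tr
    rw [k0] at hc
    have hc' : (r : ℤ) * 4 + 4 * ((s.filter fun i => ¬ H i).card : ℤ) = 8 * r := by exact_mod_cast hc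
    linarith
  have e0 : ∀ j ∈ s.filter H, ∃ x, N o j = 2 * x ∧ x ≠ 0 := fun j hj => by
    obtain ⟨hj1, hj2⟩ := Finset.mem_filter.1 hj
    obtain ⟨x, hx⟩ := Int.not_odd_iff_even.1 fun h => hno ((od o ho j hj1).1 h).1
    refine ⟨x, by omega, fun h0 => ne j hj1 o ho hj2 ?_⟩
    rw [sym, hx, h0, add_zero]
  have e1 : ∀ j ∈ s.filter H, 4 ≤ N o j * N j o := fun j hj => by
    obtain ⟨x, hx, h0⟩ := e0 j hj
    have := mul_self_pos.2 h0
    rw [sym j o, hx]
    nlinarith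
  have e2 := sq o o
  rw [← Finset.sum_filter_add_sum_filter_not s H, ← Finset.add_sum_erase _ _ hoH,
    four o ho hno] at e2
  norm_num only at e2
  have e3 : ∀ k ∈ (s.filter fun i => ¬ H i).erase o, 0 ≤ N o k * N k o := fun k _ => by
    rw [sym k o]; exact mul_self_nonneg _
  have e4 := Finset.sum_nonneg e3
  have e5 := Finset.card_nsmul_le_sum _ _ _ e1
  rw [k0, nsmul_eq_mul] at e5
  have e6 := eq_of_le e1 (by rw [k0]; push_cast at e5 ⊢; linarith)
  have e7 := eq_of_le e3 (by push_cast at e5 ⊢; linarith)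
  have e8 : ∀ j ∈ s.filter H, ∃ x, N o j = 2 * x ∧ x * x = 1 := fun j hj => by
    obtain ⟨x, hx, -⟩ := e0 j hj
    have := e6 j hj
    rw [sym j o, hx] at this
    exact ⟨x, hx, by linarith⟩
  choose! x hx hx1 using e8
  have hx2 : ∀ j ∈ s.filter H, x j = 1 ∨ x j = -1 := fun j hj => Int.eq_one_or_neg_one_of_mul_eq_one
    (hx1 j hj)
  have g1 : ∀ j ∈ s.filter H, 3 ≤ N j j := fun j hj => by
    obtain ⟨hj1, hj2⟩ := Finset.mem_filter.1 hj
    have h1 := three sym sq ev ho hj1 hj1 (2 * x j) 0 (by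
      rw [Int.not_even_iff_odd]; exact ⟨-x j, by ring⟩)
    obtain ⟨c, hc⟩ := (od j hj1 j hj1).2 ⟨hj2, hj2⟩
    have h2 := pos j hj1
    rw [four o ho hno, hx j hj] at h1
    rcases hx2 j hj with h | h <;> rw [h] at h1 <;> omega
  have g2 := eq_of_le g1 (by rw [k0, t1]; rcases hr with rfl | rfl <;> norm_num)
  have g3 : ∀ j ∈ (s.filter H).erase i, 1 ≤ x i * x j * N j i := fun j hj => by
    have hj' := Finset.mem_of_mem_erase hj
    obtain ⟨hj1, hj2⟩ := Finset.mem_filter.1 hj'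
    have h1 := three sym sq ev ho hi hj1 (x i) (x j) (by
      rcases hx2 j hj' with h | h <;> rcases hx2 i hiH with h' | h' <;> rw [h, h'] <;> decide)
    obtain ⟨c, hc⟩ := (od i hi j hj1).2 ⟨hHi, hj2⟩
    rw [four o ho hno, hx j hj', hx i hiH, g2 i hiH, g2 j hj'] at h1
    rw [sym j i]
    rcases hx2 j hj' with h | h <;> rcases hx2 i hiH with h' | h' <;> rw [h, h'] at h1 ⊢ <;> omega
  have g4 := Finset.card_nsmul_le_sum _ _ _ g3
  rw [Finset.card_erase_of_mem hiH, k0] at g4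
  have g5 := sq o i
  rw [← Finset.sum_filter_add_sum_filter_not s H, ← Finset.add_sum_erase _ _ hoH,
    ← Finset.add_sum_erase _ _ hiH, four o ho hno, g2 i hiH, hx i hiH,
    Finset.sum_eq_zero (s := (s.filter fun i => ¬ H i).erase o) fun k hk => by
      have := e7 k hk
      rw [sym k o] at this
      rw [mul_self_eq_zero.1 this, zero_mul],
    Finset.sum_congr rfl fun j (hj : j ∈ (s.filter H).erase i) =>
      show N o j * N j i = 2 * (x j * N j i) by rw [hx j (Finset.mem_of_mem_erase hj), mul_assoc],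
    ← Finset.mul_sum] at g5
  simp only [mul_assoc, ← Finset.mul_sum] at g4
  rcases hx2 i hiH with h | h <;> rw [h] at g4 g5 <;> simp at g4 <;> omega

end Cfsg.Lib.KKL.AltM
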