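import Mathlib.Data.Nat.Factorization.Basic
import Mathlib.Data.Complex.Basic
import Mathlib.Algebra.BigOperators.Ring.Finset
import Mathlib.Tactic

/-! Tower KKL (statement S4546): the arithmetic end of the discriminant argument. -/

set_option autoImplicit false

namespace Cfsg.Lib.KKL

namespace Ar

theorem cas {a h : ℕ} (h0 : a ≠ 0) (hf : a.factorization 2 = h) :
    (h = 0 ∧ a % 2 = 1) ∨ (h = 1 ∧ a % 4 = 2) ∨ (2 ≤ h ∧ a % 4 = 0) := by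
  have k1 : 2 ^ 1 ∣ a ↔ 1 ≤ h := hf ▸ Nat.prime_two.pow_dvd_iff_le_factorization h0
  have k2 : 2 ^ 2 ∣ a ↔ 2 ≤ h := hf ▸ Nat.prime_two.pow_dvd_iff_le_factorization h0
  norm_num at k1 k2
  omega

theorem inv {ι : Type*} [DecidableEq ι] (a m h : ι → ℕ) (s : Finset ι)
    (H : ∀ i ∈ s, (h i = 0 ∧ a i % 2 = 1 ∧ m i % 2 = 1) ∨ (h i = 1 ∧ a i % 4 = 2 ∧ m i % 4 = 2) ∨
      (2 ≤ h i ∧ a i % 4 = 0 ∧ m i % 4 = 0)) :
    ((∏ i ∈ s, a i ^ (m i ^ 2 % 2)) + ∑ i ∈ s, m i ^ 2 + ∑ i ∈ s, if h i = 0 then 1 else 0) % 4 =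
      (1 + ∑ i ∈ s, m i + ∑ i ∈ s, a i * m i + 2 * ∑ i ∈ s, if h i = 1 then 1 else 0) % 4 ∧
    (∏ i ∈ s, a i ^ (m i ^ 2 % 2)) % 2 = 1 ∧ (∑ i ∈ s, m i ^ 2 + ∑ i ∈ s, m i) % 2 = 0 ∧
    (∑ i ∈ s, a i * m i) % 2 = (∑ i ∈ s, if h i = 0 then 1 else 0) % 2 ∧
    ∑ i ∈ s, m i ^ 2 % 2 = ∑ i ∈ s, if h i = 0 then 1 else 0 := by
  induction s using Finset.induction_on with
  | empty => simp
  | insert x s hx ih =>
    simp only [Finset.prod_insert hx, Finset.sum_insert hx]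
    obtain ⟨h1, h2, h3, h4, h5⟩ := ih fun i hi => H i (Finset.mem_insert_of_mem hi)
    generalize (∏ i ∈ s, a i ^ (m i ^ 2 % 2)) = P at *
    obtain ⟨q, r, hr, e⟩ : ∃ q r, r < 4 ∧ a x = 4 * q + r :=
      ⟨a x / 4, a x % 4, Nat.mod_lt _ (by norm_num), (Nat.div_add_mod _ _).symm⟩
    obtain ⟨q', r', hr', e'⟩ : ∃ q r, r < 4 ∧ m x = 4 * q + r :=
      ⟨m x / 4, m x % 4, Nat.mod_lt _ (by norm_num), (Nat.div_add_mod _ _).symm⟩
    have e2 : m x ^ 2 = 4 * (4 * q' * q' + 2 * q' * r') + r' * r' := by rw [e']; ring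
    have e3 : a x * P = 4 * (q * P) + r * P := by rw [e]; ring
    have e4 : a x * m x = 4 * (q * m x + q' * r) + r * r' := by rw [e, e']; ring
    rcases H x (Finset.mem_insert_self x s) with ⟨a1, a2, a3⟩ | ⟨a1, a2, a3⟩ | ⟨a1, a2, a3⟩
    · have : m x ^ 2 % 2 = 1 := by rw [Nat.pow_mod, a3]
      rw [this, pow_one, if_pos a1, if_neg (by omega : ¬ h x = 1)]
      interval_cases r <;> interval_cases r' <;> omega
    · have : m x ^ 2 % 2 = 0 := by rw [Nat.pow_mod, show m x % 2 = 0 by omega]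
      rw [this, pow_zero, one_mul, if_pos a1, if_neg (by omega : ¬ h x = 0)]
      interval_cases r <;> interval_cases r' <;> omega
    · have : m x ^ 2 % 2 = 0 := by rw [Nat.pow_mod, show m x % 2 = 0 by omega]
      rw [this, pow_zero, one_mul, if_neg (by omega : ¬ h x = 1), if_neg (by omega : ¬ h x = 0)]
      interval_cases r <;> interval_cases r' <;> omega

end Ar

theorem ar {ι : Type*} [Fintype ι] [DecidableEq ι] (s : Finset ι) (n m h : ι → ℕ) {N c : ℕ}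
    (hN : N ≠ 0) (h0 : ∀ i ∉ s, m i = 0)
    (hm : ∀ i ∈ s, m i ≠ 0 ∧ (m i).factorization 2 = h i)
    (hn : ∀ i ∈ s, n i ≠ 0 ∧ (n i).factorization 2 = c + h i)
    (hs : 2 ^ (c + 2) ∣ ∑ i, n i * m i)
    (hd : ∀ (ρ : ℚ) (d : ℤ), (∏ i, ((n i : ℂ) / N) ^ (m i ^ 2)) *
      (-1) ^ ((∑ i, m i ^ 2 - ∑ i, m i) / 2) = (ρ : ℂ) ^ 2 * d → d % 4 ≠ 3) :
    ((s.filter fun i => h i = 0).card + 2 * (s.filter fun i => h i = 1).card) % 4 = 0 := by
  have ha : ∀ i ∈ s, n i = 2 ^ c * (n i / 2 ^ c) := fun i hi =>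
    (Nat.mul_div_cancel' ((Nat.prime_two.pow_dvd_iff_le_factorization (hn i hi).1).2
      (by rw [(hn i hi).2]; omega))).symm
  set a : ι → ℕ := fun i => n i / 2 ^ c with ha'
  have ha0 : ∀ i ∈ s, a i ≠ 0 ∧ (a i).factorization 2 = h i := fun i hi => by
    have z : a i ≠ 0 := fun e => (hn i hi).1 (by rw [ha i hi]; simp only [ha'] at e; rw [e]; simp)
    refine ⟨z, ?_⟩
    have := (hn i hi).2
    rw [ha i hi, Nat.factorization_mul (by positivity) z, Nat.prime_two.factorization_pow] at this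
    simpa using this
  obtain ⟨h1, h2, h3, h4, h5⟩ := Ar.inv a m h s fun i hi => by
    have := Ar.cas (ha0 i hi).1 (ha0 i hi).2
    have := Ar.cas (hm i hi).1 (hm i hi).2
    omega
  have s1 : ∑ i, m i ^ 2 = ∑ i ∈ s, m i ^ 2 :=
    (Finset.sum_subset (Finset.subset_univ s) fun i _ hi => by simp [h0 i hi]).symm
  have s2 : ∑ i, m i = ∑ i ∈ s, m i :=
    (Finset.sum_subset (Finset.subset_univ s) fun i _ hi => by simp [h0 i hi]).symm
  have s3 : ∑ i, n i * m i = 2 ^ c * ∑ i ∈ s, a i * m i := by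
    rw [Finset.mul_sum, ← Finset.sum_subset (Finset.subset_univ s) fun i _ hi => by simp [h0 i hi]]
    exact Finset.sum_congr rfl fun i hi => by rw [← mul_assoc, ← ha i hi]
  have s4 : ∏ i, ((n i : ℂ) / N) ^ (m i ^ 2) = ∏ i ∈ s, ((n i : ℂ) / N) ^ (m i ^ 2) :=
    (Finset.prod_subset (Finset.subset_univ s) fun i _ hi => by simp [h0 i hi]).symm
  have hle : ∑ i ∈ s, m i ≤ ∑ i ∈ s, m i ^ 2 :=
    Finset.sum_le_sum fun i _ => by rw [sq]; exact Nat.le_mul_self _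
  rw [s3, pow_add, Nat.mul_dvd_mul_iff_left (by positivity)] at hs
  rw [Finset.card_filter, Finset.card_filter]
  obtain ⟨k, hk⟩ : ∃ k, ∑ i ∈ s, m i ^ 2 % 2 = k * 2 := ⟨(∑ i ∈ s, m i ^ 2 % 2) / 2, by omega⟩
  have key := hd ((∏ i ∈ s, ((n i : ℚ) / N) ^ (m i ^ 2 / 2)) * ((2 : ℚ) ^ c / N) ^ k)
    ((-1) ^ ((∑ i ∈ s, m i ^ 2 - ∑ i ∈ s, m i) / 2) * ((∏ i ∈ s, a i ^ (m i ^ 2 % 2) : ℕ) : ℤ)) (by
      rw [s1, s2, s4]
      push_cast
      have : ∏ i ∈ s, ((n i : ℂ) / N) ^ (m i ^ 2) =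
          (∏ i ∈ s, ((n i : ℂ) / N) ^ (m i ^ 2 / 2)) ^ 2 * (((2 : ℂ) ^ c / N) ^ k) ^ 2 *
            ∏ i ∈ s, (a i : ℂ) ^ (m i ^ 2 % 2) := by
        rw [← pow_mul, ← hk, ← Finset.prod_pow_eq_pow_sum, ← Finset.prod_pow,
          ← Finset.prod_mul_distrib, ← Finset.prod_mul_distrib]
        refine Finset.prod_congr rfl fun i hi => ?_
        have e : ((2 : ℂ) ^ c / N) * a i = (n i : ℂ) / N := by
          rw [ha i hi]; push_cast; simp only [ha']; ring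
        rw [mul_assoc, ← mul_pow, e, ← pow_mul, ← pow_add, mul_comm (_ / 2), Nat.div_add_mod]
      rw [this]; ring)
  rcases Nat.even_or_odd ((∑ i ∈ s, m i ^ 2 - ∑ i ∈ s, m i) / 2) with h | h
  · rw [h.neg_one_pow] at key; rw [Nat.even_iff] at h; omega
  · rw [h.neg_one_pow] at key; rw [Nat.odd_iff] at h; omega

end Cfsg.Lib.KKL
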