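import Mathlib

/-! Tower KKL: idempotent matrices invariant under an elementary abelian `2`-group. -/

set_option autoImplicit false
set_option linter.unusedSectionVars false

open MulAction

namespace Cfsg.Lib.KKL

section Perm
variable {P Ω : Type*} [CommGroup P] [Finite P] [MulAction P Ω] [Fintype Ω] [DecidableEq Ω]

theorem fixv {k : Type*} [Field k] (h2 : (2 : k) = 0) (hP : ∀ p : P, p * p = 1)
    (W : Submodule k (Ω → k)) (hW : ∀ p : P, ∀ v ∈ W, (fun a => v (p • a)) ∈ W) (h0 : W ≠ ⊥) :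
    ∃ v ∈ W, v ≠ 0 ∧ ∀ (p : P) (a : Ω), v (p • a) = v a := by
  classical
  haveI := Fintype.ofFinite P
  suffices h : ∀ s : Finset P, ∃ v ∈ W, v ≠ 0 ∧ ∀ p ∈ s, ∀ a : Ω, v (p • a) = v a by
    obtain ⟨v, a, b, c⟩ := h Finset.univ
    exact ⟨v, a, b, fun p => c p (Finset.mem_univ p)⟩
  intro s
  induction s using Finset.induction_on with
  | empty =>
    obtain ⟨v, a, b⟩ := (Submodule.ne_bot_iff W).1 h0
    exact ⟨v, a, b, by simp⟩
  | insert p s _ ih =>
    obtain ⟨v, a, b, c⟩ := ih
    by_cases e : ∀ x : Ω, v (p • x) = v x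
    · exact ⟨v, a, b, fun q hq => (Finset.mem_insert.1 hq).elim (fun k => k ▸ e) (c q)⟩
    refine ⟨v + fun x => v (p • x), W.add_mem a (hW p v a), fun k => e fun x => ?_, fun q hq x => ?_⟩
    · have := congrFun k x
      simp only [Pi.add_apply, Pi.zero_apply] at this
      linear_combination this - v x * h2
    · simp only [Pi.add_apply]
      rcases Finset.mem_insert.1 hq with rfl | hq
      · rw [smul_smul, hP, one_smul, add_comm]
      · rw [smul_smul, mul_comm, ← smul_smul, c q hq, c q hq]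

namespace Base

open Classical in
theorem grp {k : Type*} [Field k] (f g : Ω → k) (hg : ∀ (p : P) (a : Ω), g (p • a) = g a)
    (h : ∀ b, (∑ y ∈ Finset.univ.filter (· ∈ orbit P b), f y) * g b = 0) : ∑ y, f y * g y = 0 := by
  haveI := Fintype.ofFinite (orbitRel.Quotient P Ω)
  rw [← Finset.sum_fiberwise Finset.univ (fun y : Ω => (Quotient.mk'' y : orbitRel.Quotient P Ω))]
  refine Finset.sum_eq_zero fun O _ => ?_
  obtain ⟨b, rfl⟩ := Quotient.mk''_surjective O
  rw [← h b, Finset.sum_mul]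
  refine Finset.sum_congr (Finset.filter_congr fun y _ => Quotient.eq'') fun y hy => ?_
  obtain ⟨p, rfl⟩ := (Finset.mem_filter.1 hy).2
  exact congrArg _ (hg p b)

theorem mem (p : P) {b y : Ω} (h : y ∈ orbit P b) : p • y ∈ orbit P b := by
  obtain ⟨q, rfl⟩ := h
  exact ⟨p * q, mul_smul p q b⟩

end Base

theorem base {k : Type*} [Field k] (h2 : (2 : k) = 0) (hP : ∀ p : P, p * p = 1)
    (E : Matrix Ω Ω k) (hE : E * E = E) (hi : ∀ (p : P) (a b : Ω), E (p • a) (p • b) = E a b)
    (h0 : E ≠ 0) : ∃ (a b : Ω) (Y : Finset Ω), (∀ y, y ∈ Y ↔ y ∈ orbit P b) ∧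
      stabilizer P a = stabilizer P b ∧ ∑ y ∈ Y, E a y ≠ 0 := by
  classical
  have pp : ∀ (p : P) (a : Ω), p • p • a = a := fun p a => by rw [smul_smul, hP, one_smul]
  obtain ⟨Eb, hEb⟩ : ∃ Eb : Ω → Ω → k,
      ∀ a b, Eb a b = ∑ y ∈ Finset.univ.filter (· ∈ orbit P b), E a y := ⟨_, fun _ _ => rfl⟩
  have h1 : ∃ a b, Eb a b ≠ 0 := by
    by_contra! hz
    obtain ⟨x, hx, x0, xi⟩ := fixv h2 hP (LinearMap.eqLocus E.mulVecLin LinearMap.id) (fun p v hv => by
      have hv' : E.mulVec v = v := hv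
      change E.mulVec _ = _
      funext a
      have e := congrFun hv' (p • a)
      simp only [Matrix.mulVec, dotProduct] at e ⊢
      simp only [LinearMap.id_apply]
      rw [← e, ← Equiv.sum_comp (MulAction.toPerm p) fun y => E (p • a) y * v y]
      exact Finset.sum_congr rfl fun y _ => by rw [MulAction.toPerm_apply, hi]) (by
      obtain ⟨a, b, e⟩ : ∃ a b, E a b ≠ 0 := by
        by_contra! k
        exact h0 (Matrix.ext k)
      refine (Submodule.ne_bot_iff _).2 ⟨fun c => E c b, ?_, fun k => e (congrFun k a)⟩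
      change E.mulVec _ = _
      funext c
      exact congrFun (congrFun hE c) b)
    have hx' : E.mulVec x = x := hx
    refine x0 (funext fun a => ?_)
    rw [← congrFun hx' a]
    exact Base.grp (P := P) (E a) x xi fun b => by rw [← hEb, hz, zero_mul]
  have h3 : ∀ a b, Eb a b ≠ 0 → stabilizer P a ≤ stabilizer P b := fun a b e p hp => by
    by_contra k
    refine e ?_
    rw [hEb]
    refine Finset.sum_involution (fun y _ => p • y) (fun y _ => ?_) (fun y hy _ c => k ?_)
      (fun y hy => Finset.mem_filter.2 ⟨Finset.mem_univ _, Base.mem p (Finset.mem_filter.1 hy).2⟩)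
      fun y _ => pp p y
    · have := hi p a y
      rw [show p • a = a from hp] at this
      rw [this]
      linear_combination E a y * h2
    · obtain ⟨q, rfl⟩ := (Finset.mem_filter.1 hy).2
      have c' : p • q • b = q • b := c
      rw [smul_smul, mul_comm, ← smul_smul] at c'
      exact smul_left_cancel q c'
  have h4 : ∀ (p : P) (c b : Ω), Eb (p • c) b = Eb c b := fun p c b => by
    rw [hEb, hEb]
    refine Finset.sum_bij' (fun y _ => p • y) (fun y _ => p • y)
      (fun y hy => Finset.mem_filter.2 ⟨Finset.mem_univ _, Base.mem p (Finset.mem_filter.1 hy).2⟩)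
      (fun y hy => Finset.mem_filter.2 ⟨Finset.mem_univ _, Base.mem p (Finset.mem_filter.1 hy).2⟩)
      (fun y _ => pp p y) (fun y _ => pp p y) fun y _ => ?_
    rw [← hi p c (p • y), pp]
  have h5 : ∀ a b, Eb a b ≠ 0 → ∃ c, Eb a c ≠ 0 ∧ Eb c b ≠ 0 := fun a b e => by
    by_contra! k
    refine e ?_
    have s : Eb a b = ∑ c, E a c * Eb c b := by
      simp only [hEb, Finset.mul_sum]
      rw [Finset.sum_comm]
      exact Finset.sum_congr rfl fun y _ => (congrFun (congrFun hE a) y).symm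
    rw [s]
    refine Base.grp (P := P) (E a) (fun c => Eb c b) (fun p c => h4 p c b) fun c => ?_
    rw [← hEb]
    by_cases z : Eb a c = 0
    · rw [z, zero_mul]
    · rw [k c z, mul_zero]
  obtain ⟨a0, b0, e0⟩ := h1
  obtain ⟨⟨a, b⟩, e, mn⟩ := Set.exists_min_image {x : Ω × Ω | Eb x.1 x.2 ≠ 0}
    (fun x => Nat.card (stabilizer P x.2) - Nat.card (stabilizer P x.1)) (Set.toFinite _) ⟨(a0, b0), e0⟩
  obtain ⟨c, e1, e2⟩ := h5 a b e
  have m1 := mn (a, c) e1
  have m2 := mn (c, b) e2
  have l1 := Subgroup.card_le_of_le (h3 a c e1)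
  have l2 := Subgroup.card_le_of_le (h3 c b e2)
  refine ⟨a, b, Finset.univ.filter (· ∈ orbit P b), fun y => by simp,
    Subgroup.eq_of_le_of_card_ge (h3 a b e) ?_, hEb a b ▸ e⟩
  simp only at m1 m2
  omega

end Perm

end Cfsg.Lib.KKL
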