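import Mathlib

set_option autoImplicit false

open MulAction

namespace Cfsg.Lib.KKL

variable {P Ω : Type*} [CommGroup P] [Finite P] [MulAction P Ω] [Fintype Ω] [DecidableEq Ω]

namespace Blk

omit [Fintype Ω] [DecidableEq Ω] in
theorem fixw {k : Type*} [Field k] (h2 : (2 : k) = 0) (hP : ∀ p : P, p * p = 1)
    (W : Submodule k (Ω → k)) (hW : ∀ p : P, ∀ v ∈ W, (fun a => v (p • a)) ∈ W) (h0 : W ≠ ⊥) :
    ∃ v ∈ W, v ≠ 0 ∧ ∀ (p : P) (a : Ω), v (p • a) = v a := by
  classical
  let st : (Ω → k) → Set P := fun v => {p | ∀ a, v (p • a) = v a}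
  obtain ⟨v0, hv0, hv00⟩ := Submodule.exists_mem_ne_zero_of_ne_bot h0
  have key : ∀ n : ℕ, ∀ v ∈ W, v ≠ 0 → (st v)ᶜ.ncard = n →
      ∃ v ∈ W, v ≠ 0 ∧ ∀ (p : P) (a : Ω), v (p • a) = v a := by
    intro n
    induction n using Nat.strong_induction_on with
    | _ n ih =>
      intro v hv hv0 hn
      by_cases hall : ∀ (p : P) (a : Ω), v (p • a) = v a
      · exact ⟨v, hv, hv0, hall⟩
      push Not at hall
      obtain ⟨p, a, hpa⟩ := hall
      let w : Ω → k := v + fun a => v (p • a)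
      have hw : w ∈ W := W.add_mem hv (hW p v hv)
      have hw0 : w ≠ 0 := by
        intro h
        have h3 : v a + v (p • a) = 0 := congrFun h a
        apply hpa
        linear_combination h3 - v a * h2
      refine ih _ ?_ w hw hw0 rfl
      rw [← hn]
      apply Set.ncard_lt_ncard _ (Set.toFinite _)
      refine ⟨Set.compl_subset_compl.2 ?_, fun h => ?_⟩
      · intro q hq x
        change v (q • x) + v (p • q • x) = v x + v (p • x)
        rw [hq x, smul_comm p q x, hq]
      · have h4 : p ∈ (st v)ᶜ := fun h => hpa (h a)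
        apply h h4
        intro x
        change v (p • x) + v (p • p • x) = v x + v (p • x)
        rw [smul_smul, hP, one_smul, add_comm]
  exact key _ v0 hv0 hv00 rfl

omit [Finite P] [DecidableEq Ω] in
theorem inv_mul {O : Type*} [CommRing O] {A B : Matrix Ω Ω O}
    (hA : ∀ (p : P) (x y : Ω), A (p • x) (p • y) = A x y)
    (hB : ∀ (p : P) (x y : Ω), B (p • x) (p • y) = B x y) (p : P) (x y : Ω) :
    (A * B) (p • x) (p • y) = (A * B) x y := by
  rw [Matrix.mul_apply, Matrix.mul_apply, ← Equiv.sum_comp (MulAction.toPerm p)]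
  refine Finset.sum_congr rfl fun z _ => ?_
  rw [MulAction.toPerm_apply, hA, hB]

omit [Finite P] in
theorem inv_inv {O : Type*} [CommRing O] {A : Matrix Ω Ω O}
    (hA : ∀ (p : P) (x y : Ω), A (p • x) (p • y) = A x y) (p : P) (x y : Ω) :
    A⁻¹ (p • x) (p • y) = A⁻¹ x y := by
  have h1 : A.submatrix (MulAction.toPerm p) (MulAction.toPerm p) = A := by
    ext u w
    simp only [Matrix.submatrix_apply, MulAction.toPerm_apply, hA]
  have h2 := Matrix.inv_submatrix_equiv A (MulAction.toPerm p) (MulAction.toPerm p)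
  rw [h1] at h2
  have h3 := congrFun (congrFun h2 x) y
  simpa only [Matrix.submatrix_apply, MulAction.toPerm_apply] using h3.symm

omit [Finite P] [Fintype Ω] [DecidableEq Ω] in
theorem exists_phi {a b : Ω} (hs : stabilizer P a = stabilizer P b) :
    ∃ φ : Ω → Ω, ∀ p : P, φ (p • b) = p • a := by
  classical
  refine ⟨fun x => if h : ∃ p : P, p • b = x then h.choose • a else x, fun p => ?_⟩
  have h : ∃ q : P, q • b = p • b := ⟨p, rfl⟩
  simp only [dif_pos h]
  have h1 := h.choose_spec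
  set q := h.choose
  have h2 : p⁻¹ * q ∈ stabilizer P b := by
    rw [mem_stabilizer_iff, mul_smul, h1, inv_smul_smul]
  rw [← hs, mem_stabilizer_iff, mul_smul, inv_smul_eq_iff] at h2
  exact h2

theorem unit_det {O : Type*} [CommRing O] [IsLocalRing O] (h2 : ¬ IsUnit (2 : O))
    (hP : ∀ p : P, p * p = 1) (N : Matrix Ω Ω O)
    (hN : ∀ (p : P) (x y : Ω), N (p • x) (p • y) = N x y) {b : Ω} {Y : Finset Ω}
    (hY : ∀ y, y ∈ Y ↔ y ∈ orbit P b) (h1 : ∀ x ∉ Y, ∀ y, N x y = if x = y then 1 else 0)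
    (hu : IsUnit (∑ y ∈ Y, N b y)) : IsUnit N.det := by
  classical
  let r := IsLocalRing.residue O
  rw [← IsLocalRing.residue_ne_zero_iff_isUnit, RingHom.map_det]
  intro hd
  obtain ⟨v0, hv0, hv1⟩ := Matrix.exists_mulVec_eq_zero_iff.2 hd
  have h2' : (2 : IsLocalRing.ResidueField O) = 0 := by
    have : r 2 = 0 := by
      by_contra h
      exact h2 ((IsLocalRing.residue_ne_zero_iff_isUnit _).1 h)
    rwa [map_ofNat] at this
  let W : Submodule (IsLocalRing.ResidueField O) (Ω → IsLocalRing.ResidueField O) :=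
    LinearMap.ker (r.mapMatrix N).mulVecLin
  have hWm : ∀ v, v ∈ W ↔ ∀ x, ∑ y, r (N x y) * v y = 0 := by
    intro v
    change (r.mapMatrix N).mulVec v = 0 ↔ _
    rw [funext_iff]
    rfl
  have hW : ∀ p : P, ∀ v ∈ W, (fun a => v (p • a)) ∈ W := by
    intro p v hv
    rw [hWm] at hv ⊢
    intro x
    rw [← hv (p • x), ← Equiv.sum_comp (MulAction.toPerm p) fun y => r (N (p • x) y) * v y]
    refine Finset.sum_congr rfl fun z _ => ?_
    rw [MulAction.toPerm_apply, hN]
  have hW0 : W ≠ ⊥ := by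
    intro h
    have : v0 ∈ W := hv1
    rw [h] at this
    exact hv0 this
  obtain ⟨v, hv, hvne, hvf⟩ := fixw h2' hP W hW hW0
  rw [hWm] at hv
  have hoff : ∀ x ∉ Y, v x = 0 := by
    intro x hx
    have := hv x
    simpa [h1 x hx, apply_ite r] using this
  have hon : ∀ y ∈ Y, v y = v b := by
    intro y hy
    obtain ⟨p, rfl⟩ := (hY y).1 hy
    exact hvf p b
  have hb : r (∑ y ∈ Y, N b y) * v b = 0 := by
    rw [← hv b, map_sum, Finset.sum_mul, ← Finset.sum_subset (Finset.subset_univ Y)]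
    · exact Finset.sum_congr rfl fun y hy => by rw [hon y hy]
    · intro y _ hy
      rw [hoff y hy, mul_zero]
  have hb0 : v b = 0 :=
    (mul_eq_zero.1 hb).resolve_left ((IsLocalRing.residue_ne_zero_iff_isUnit _).2 hu)
  apply hvne
  funext x
  by_cases hx : x ∈ Y
  · rw [hon x hx, hb0]; rfl
  · exact hoff x hx

end Blk

theorem blk {O : Type*} [CommRing O] [IsLocalRing O] (h2 : ¬ IsUnit (2 : O))
    (hP : ∀ p : P, p * p = 1) (E : Matrix Ω Ω O)
    (hi : ∀ (p : P) (a b : Ω), E (p • a) (p • b) = E a b) {a b : Ω} {Y : Finset Ω}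
    (hY : ∀ y, y ∈ Y ↔ y ∈ orbit P b) (hs : stabilizer P a = stabilizer P b)
    (hu : IsUnit (∑ y ∈ Y, E a y)) :
    ∃ T : Matrix Ω Ω O, (∀ (p : P) (x y : Ω), T (p • x) (p • y) = T x y) ∧
      (∀ x ∉ Y, ∀ y, T x y = 0) ∧ ∀ x, ∀ y ∈ Y, (T * E) x y = if x = y then 1 else 0 := by
  classical
  obtain ⟨φ, hφ⟩ := Blk.exists_phi hs
  have hYp : ∀ (p : P) (x : Ω), p • x ∈ Y ↔ x ∈ Y := by
    intro p x
    rw [hY, hY]
    constructor
    · intro h
      have := mem_orbit_of_mem_orbit p⁻¹ h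
      rwa [inv_smul_smul] at this
    · exact mem_orbit_of_mem_orbit p
  have hφp : ∀ (p : P), ∀ x ∈ Y, φ (p • x) = p • φ x := by
    intro p x hx
    obtain ⟨q, rfl⟩ := (hY x).1 hx
    change φ (p • q • b) = p • φ (q • b)
    rw [smul_smul, hφ, hφ, smul_smul]
  have hb : b ∈ Y := (hY b).2 (mem_orbit_self b)
  have hφb : φ b = a := by simpa using hφ 1
  let N : Matrix Ω Ω O := fun x y =>
    if x ∈ Y then (if y ∈ Y then E (φ x) y else 0) else (if x = y then 1 else 0)
  let U : Matrix Ω Ω O := fun y z => if y ∈ Y ∧ z = φ y then 1 else 0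
  have hN : ∀ (p : P) (x y : Ω), N (p • x) (p • y) = N x y := by
    intro p x y
    simp only [N, hYp, smul_left_cancel_iff]
    by_cases hx : x ∈ Y
    · simp only [if_pos hx, hφp p x hx, hi]
    · simp only [if_neg hx]
  have hU : ∀ (p : P) (x y : Ω), U (p • x) (p • y) = U x y := by
    intro p x y
    simp only [U, hYp]
    by_cases hx : x ∈ Y
    · simp only [hφp p x hx, smul_left_cancel_iff]
    · simp only [hx, false_and]
  have hdet : IsUnit N.det := by
    refine Blk.unit_det h2 hP N hN hY (fun x hx y => by simp only [N, if_neg hx]) ?_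
    have : ∑ y ∈ Y, N b y = ∑ y ∈ Y, E a y :=
      Finset.sum_congr rfl fun y hy => by simp only [N, if_pos hb, if_pos hy, hφb]
    rwa [this]
  have hUE : ∀ y, ∀ w ∈ Y, (U * E) y w = N y w := by
    intro y w hw
    rw [Matrix.mul_apply]
    by_cases hy : y ∈ Y
    · simp [U, N, hy, hw]
    · have : y ≠ w := fun h => hy (h ▸ hw)
      simp [U, N, hy, this]
  refine ⟨Matrix.of fun x z => if x ∈ Y then (N⁻¹ * U) x z else 0, ?_, ?_, ?_⟩
  · intro p x y
    simp only [Matrix.of_apply, hYp, Blk.inv_mul (Blk.inv_inv hN) hU]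
  · intro x hx y
    simp only [Matrix.of_apply, if_neg hx]
  · intro x y hy
    by_cases hx : x ∈ Y
    · have h1 : (N⁻¹ * U * E) x y = (N⁻¹ * N) x y := by
        rw [Matrix.mul_assoc, Matrix.mul_apply, Matrix.mul_apply]
        exact Finset.sum_congr rfl fun z _ => by rw [hUE z y hy]
      rw [Matrix.nonsing_inv_mul _ hdet, Matrix.one_apply] at h1
      rw [← h1, Matrix.mul_apply, Matrix.mul_apply]
      simp only [Matrix.of_apply, if_pos hx]
    · have : x ≠ y := fun h => hx (h ▸ hy)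
      rw [Matrix.mul_apply]
      simp only [Matrix.of_apply, if_neg hx, if_neg this, zero_mul, Finset.sum_const_zero]

end Cfsg.Lib.KKL
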