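import Cfsg.Agent.Char.Galois
import Cfsg.Agent.Char.Irr

/-! Tower KKL (statement S4546): definitions. -/

set_option autoImplicit false

namespace Cfsg.Lib.KKL

/-- The Gram matrix of the symmetrizing form on `f ℂG f`. -/
noncomputable def Gm {G : Type*} [Group G] [Fintype G] (f : G → ℂ) (g h : G) : ℂ :=
  ∑ x, f x * f (g⁻¹ * x⁻¹ * h⁻¹)

theorem Gm_eq_1' : type_of% @Gm.eq_1 := @Gm.eq_1

/-- `σ` fixes the `n`-th roots of unity. -/
def Fx (n : ℕ) (σ : ℂ ≃+* ℂ) : Prop := ∀ z : ℂ, z ^ n = 1 → σ z = z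

theorem Fx_eq_1' : type_of% @Fx.eq_1 := @Fx.eq_1

/-- An idempotent `f` of the group algebra with ranks `m`. -/
structure Idem {G : Type*} [Group G] [Fintype G] (f : G → ℂ) (m : IrrCharacter G → ℕ) : Prop where
  sq : ∀ z, ∑ x, f x * f (x⁻¹ * z) = f z
  rk : ∀ χ : IrrCharacter G, ∑ g, f g * (χ : G → ℂ) g = m χ

end Cfsg.Lib.KKL
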