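import Cfsg.Agent.KKL.Defs
import Cfsg.Agent.Block.BDGrid
import Cfsg.Agent.Block.BDAb

/-! Tower KKL: odd values of the Cartan form of a block with Klein four defect group. -/

set_option autoImplicit false

open Cfsg Cfsg.Lib Cfsg.Lib.Char Cfsg.Lib.Block MulAction

namespace Cfsg.Lib.KKL

universe u

namespace Four

section Grp

variable {S : Type u} [Group S]

theorem comm (hsq : ∀ u : S, u * u = 1) (x y : S) : x * y = y * x := by
  have h : ∀ u : S, u⁻¹ = u := fun u => inv_eq_of_mul_eq_one_right (hsq u)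
  rw [← h (x * y), mul_inv_rev, h, h]

variable [Finite S] (h4 : Nat.card S = 4) (hsq : ∀ u : S, u * u = 1) {E : Subgroup (MulAut S)}

include h4 in
theorem ncard_compl : ({1}ᶜ : Set S).ncard = 3 := by
  have := Set.ncard_add_ncard_compl ({1} : Set S)
  rw [Set.ncard_singleton, h4] at this
  omega

omit [Finite S] in
include h4 hsq in
theorem free (hE : ¬ 2 ∣ Nat.card E) :
    ∀ a ∈ E, ∀ x ∈ ({1}ᶜ : Set S), a x = x → a = 1 := by
  intro a ha x hx h
  have ho : orderOf x = 2 := orderOf_eq_prime (by rw [sq, hsq]) hx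
  have hi : (Subgroup.zpowers x).index = 2 := by
    have := (Subgroup.zpowers x).index_mul_card
    rw [Nat.card_zpowers, ho, h4] at this
    omega
  have h2 : a ^ 2 = 1 := by
    ext y
    have h1 : a y * y ∈ Subgroup.zpowers x := by
      rw [Subgroup.mul_mem_iff_of_index_two hi]
      refine ⟨fun h3 => ?_, fun h3 => by rwa [AG.fix_of_mem h h3]⟩
      have h5 := a.injective (AG.fix_of_mem h h3)
      rwa [h5] at h3
    have h3 := AG.fix_of_mem h h1
    rw [map_mul, comm hsq (a y) y] at h3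
    rw [sq, MulAut.mul_apply, MulAut.one_apply]
    exact mul_right_cancel h3
  have h5 := orderOf_dvd_of_pow_eq_one h2
  rcases (Nat.dvd_prime Nat.prime_two).1 h5 with h6 | h6
  · exact orderOf_eq_one_iff.1 h6
  · exact absurd (h6 ▸ Subgroup.orderOf_dvd_natCard E ha) hE

omit [Finite S] in
theorem stab : ∀ a ∈ E, ∀ x ∈ ({1}ᶜ : Set S), a x ∈ ({1}ᶜ : Set S) := fun a _ x hx h =>
  hx (a.injective (by rw [map_one]; exact h))

include h4 in
theorem trans (hf : ∀ a ∈ E, ∀ x ∈ ({1}ᶜ : Set S), a x = x → a = 1) (h3 : Nat.card E = 3)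
    {u v : S} (hu : u ≠ 1) (hv : v ≠ 1) : ∃ a ∈ E, a u = v := by
  have h1 : (fun a : MulAut S => a u) '' (E : Set (MulAut S)) = {1}ᶜ := by
    refine Set.eq_of_subset_of_ncard_le ?_ ?_
    · rintro _ ⟨a, ha, rfl⟩
      exact stab a ha u hu
    · rw [ncard_compl h4, Set.InjOn.ncard_image, ← Nat.card_coe_set_eq]
      · exact h3.ge
      · intro a ha b hb e
        have := hf (b⁻¹ * a) (E.mul_mem (E.inv_mem hb) ha) u hu (by
          rw [MulAut.mul_apply, show a u = b u from e, MulAut.inv_apply_self])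
        exact (inv_mul_eq_one.1 this).symm
  exact h1.ge hv

end Grp

theorem arith {ι : Type*} (s : Finset ι) (n d : ι → ℤ) (hd : ∀ i ∈ s, d i * d i = 1)
    (ho : ¬ (2 : ℤ) ∣ 4 * ∑ i ∈ s, n i * n i - (∑ i ∈ s, n i * d i) ^ 2) :
    (4 * ∑ i ∈ s, n i * n i - (∑ i ∈ s, n i * d i) ^ 2) % 8 = 3 := by
  have h1 : (2 : ℤ) ∣ ∑ i ∈ s, (n i * n i - n i * d i) := Finset.dvd_sum fun i hi => by
    have := Int.even_mul_succ_self (n i)
    have h2 := Int.even_mul_pred_self (n i)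
    rcases Int.eq_one_or_neg_one_of_mul_eq_one (hd i hi) with h | h <;> rw [h]
    · rw [show n i * n i - n i * 1 = n i * (n i - 1) by ring]
      exact h2.two_dvd
    · rw [show n i * n i - n i * -1 = n i * (n i + 1) by ring]
      exact this.two_dvd
  rw [Finset.sum_sub_distrib] at h1
  generalize ∑ i ∈ s, n i * n i = A at *
  generalize ∑ i ∈ s, n i * d i = T at *
  obtain ⟨k, hk⟩ := h1
  obtain ⟨j, rfl | rfl⟩ := Int.even_or_odd' T
  · exact absurd ⟨2 * A - 2 * j ^ 2, by ring⟩ ho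
  · obtain ⟨m, hm⟩ := Int.even_mul_succ_self j
    have : (2 * j + 1) ^ 2 = 8 * m + 1 := by linear_combination 4 * hm
    rw [this]
    omega

theorem sq_mod (n : ℤ) (ho : ¬ (2 : ℤ) ∣ n * n) : n * n % 8 = 1 := by
  obtain ⟨j, rfl | rfl⟩ := Int.even_or_odd' n
  · exact absurd ⟨2 * j ^ 2, by ring⟩ ho
  · obtain ⟨m, hm⟩ := Int.even_mul_succ_self j
    have : (2 * j + 1) * (2 * j + 1) = 8 * m + 1 := by linear_combination 4 * hm
    rw [this]
    omega

theorem sq_eq_one {ι : Type*} (s : Finset ι) (d : ι → ℤ) (h0 : ∀ i ∈ s, d i ≠ 0)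
    (h : ∑ i ∈ s, d i * d i = s.card) : ∀ i ∈ s, d i * d i = 1 := by
  have h1 : ∀ i ∈ s, (1 : ℤ) ≤ d i * d i := fun i hi => mul_self_pos.2 (h0 i hi)
  intro i hi
  exact ((Finset.sum_eq_sum_iff_of_le h1).1 (by rw [h]; simp) i hi).symm

variable {M : Ideal AlgInt} {S : Type u} [Group S]

theorem gram (c : BD 2 M S) (h4 : Nat.card S = 4) (hsq : ∀ u : S, u * u = 1) {u : S} (hu : u ≠ 1)
    (hr : c.rk u = 1) (hl : c.l = 3) (hf : ∀ v ≠ 1, c.ef u v) :
    ∃ d : IrrCharacter c.G → ℤ, (∀ χ ∈ irrFin c.B, d χ * d χ = 1) ∧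
      (∀ χ ∈ irrFin c.B, bf 2 c.B (rE 2 c.B χ) (rE 2 c.B χ) = 4 - d χ * d χ) ∧
      ∀ χ ∈ irrFin c.B, ∀ ψ ∈ irrFin c.B, χ ≠ ψ →
        bf 2 c.B (rE 2 c.B χ) (rE 2 c.B ψ) = - (d χ * d ψ) := by
  classical
  have := c.finite
  have := Fintype.ofFinite S
  have hn : ¬ c.ef u 1 := fun h => hu h.symm.eq_one
  have hs : c.dlt 1 + c.dlt u = 1 := funext fun x => by
    by_cases h : x = 1
    · subst h
      simp [BD.dlt, hn, c.ef_refl]
    · have h' : ¬ c.ef 1 x := fun e => h e.eq_one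
      simp [BD.dlt, hf x h, h']
  have hk : (irrFin c.B).card = 4 := by
    have h1 := congrArg (Rat.cast (K := ℂ)) (BD.k_eq_sum (b := c))
    have h2 := BD.sum_dlt_wt (b := c) 1
    have h3 := BD.sum_dlt_wt (b := c) u
    have h5 : ∑ x, c.dlt 1 x * c.wt x + ∑ x, c.dlt u x * c.wt x = ∑ x, (c.wt x : ℂ) := by
      rw [← Finset.sum_add_distrib]
      exact Finset.sum_congr rfl fun x _ => by
        rw [← add_mul, ← Pi.add_apply, hs, Pi.one_apply, one_mul]
    rw [h2, h3, c.rk_one, hl, hr] at h5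
    simp only [Rat.cast_sum, Rat.cast_natCast] at h1
    rw [card_irrFin]
    have h6 : ((c.k : ℕ) : ℂ) = (4 : ℕ) := by rw [h1, ← h5]; norm_num
    exact_mod_cast h6
  obtain ⟨d, h0, hd⟩ := BD.exists_int_mat_dl (b := c) (l := c.dlt u) (u := u)
    (Subgroup.mem_center_iff.2 fun g => comm hsq g u) (by rw [sq, hsq]) hr
    (fun v hv => by simp [BD.dlt, hv]) (fun v hv => by simp [BD.dlt, hv])
  have ht : ∑ χ ∈ irrFin c.B, d χ * d χ = (irrFin c.B).card := by
    have h1 := BD.mat_trace (b := c) (BD.st_dlt u)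
    rw [BD.sum_dlt_wt, hr] at h1
    apply Int.cast_injective (α := ℂ)
    push_cast
    rw [← Finset.sum_congr rfl fun χ _ => hd χ χ, ← Finset.mul_sum, h1, hk, h4]
    norm_num
  have hb : ∀ χ ∈ irrFin c.B, ∀ ψ ∈ irrFin c.B, (bf 2 c.B (rE 2 c.B χ) (rE 2 c.B ψ) : ℂ) =
      4 * (if χ = ψ then 1 else 0) - d χ * d ψ := fun χ hχ ψ hψ => by
    rw [← BD.mat_dl_one (l := c.dlt 1) (by simp [BD.dlt, c.ef_refl])
      (fun v hv => if_neg fun e => hv (BD.ef.eq_one e)) (mem_irrFin.1 hχ) (mem_irrFin.1 hψ), ← hd,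
      ← BD.mat_one (mem_irrFin.1 hχ) ψ, ← hs, BD.mat_add, h4]
    push_cast
    ring
  refine ⟨d, sq_eq_one _ d (fun χ hχ => h0 χ (mem_irrFin.1 hχ)) ht, fun χ hχ => ?_,
    fun χ hχ ψ hψ h => ?_⟩
  · have := hb χ hχ χ hχ
    rw [if_pos rfl, mul_one] at this
    exact_mod_cast this
  · have := hb χ hχ ψ hψ
    rw [if_neg h, mul_zero, zero_sub] at this
    exact_mod_cast this

end Four

section BD

variable {M : Ideal AlgInt} {S : Type u} [Group S]

theorem four (c : BD 2 M S) (h4 : Nat.card S = 4) (hsq : ∀ u : S, u * u = 1)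
    (η : regLat 2 c.B) (ho : ¬ (2 : ℤ) ∣ bf 2 c.B η η) : bf 2 c.B η η % 8 = c.l := by
  classical
  have := c.finite
  have hc := Four.comm hsq
  have hf := Four.free h4 hsq (c.not_dvd_card_aut hc)
  have h1 := AG.free_dvd _ Four.stab hf
  rw [Four.ncard_compl h4] at h1
  have hl := BD.l_eq_of_le_three (b := c) hc (Nat.le_of_dvd three_pos h1)
  rcases (Nat.dvd_prime Nat.prime_three).1 h1 with h | h
  · rw [h] at hl
    obtain ⟨φ, h2, -, h3⟩ := exists_generator_of_rank_one c.hM c.hB hl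
    have h5 : bf 2 c.B η η = bf 2 c.B η φ * bf 2 c.B η φ := by
      conv_lhs => rw [h3 η]
      simp only [map_smul, LinearMap.smul_apply, h2, smul_eq_mul, mul_one]
    rw [h5] at ho ⊢
    rw [Four.sq_mod _ ho, hl]
    rfl
  · rw [h] at hl
    have : Nontrivial S := Finite.one_lt_card_iff_nontrivial.1 (by omega)
    obtain ⟨u, hu⟩ := exists_ne (1 : S)
    have h2 : Nat.card (AG.Sb c.aut u) = 1 := Subgroup.card_eq_one.2 (eq_bot_iff.2 fun a ha =>
      hf a (AG.mem_Sb.1 ha).1 u hu (AG.mem_Sb.1 ha).2)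
    have hr : c.rk u = 1 := by rw [BD.rk_eq_of_le_three hc (by omega), h2]
    obtain ⟨d, hd, h3, h5⟩ := Four.gram c h4 hsq hu hr hl fun v hv =>
      (BD.ef_iff hc).2 (Four.trans h4 hf h hu hv)
    obtain ⟨n, hn⟩ := exists_eq_sum_rE η
    have h6 : bf 2 c.B η η = 4 * ∑ i ∈ irrFin c.B, n i * n i - (∑ i ∈ irrFin c.B, n i * d i) ^ 2 := by
      rw [hn, sq, Finset.sum_mul_sum, Finset.mul_sum, ← Finset.sum_sub_distrib]
      simp only [map_sum, LinearMap.sum_apply, map_smul, LinearMap.smul_apply, smul_eq_mul]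
      refine Finset.sum_congr rfl fun χ hχ => ?_
      rw [Finset.mul_sum, ← Finset.add_sum_erase _ _ hχ, ← Finset.add_sum_erase _ _ hχ, h3 χ hχ,
        ← sub_sub, sub_eq_add_neg _ (Finset.sum _ _), ← Finset.sum_neg_distrib]
      congr 1
      · ring
      · refine Finset.sum_congr rfl fun ψ hψ => ?_
        rw [h5 ψ (Finset.mem_of_mem_erase hψ) χ hχ (Finset.ne_of_mem_erase hψ)]
        ring
    rw [h6] at ho ⊢
    rw [Four.arith _ n d hd ho, hl]
    rfl

end BD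

end Cfsg.Lib.KKL
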