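import Cfsg.Agent.Solv.ElemAb

/-! # Odd-order automorphism groups of an elementary abelian group of order 8 -/

set_option autoImplicit false

namespace Cfsg.Lib.KKL

open Subgroup Cfsg.Lib.Solv

theorem grpB_fix {S : Type*} [Group S] [Finite S] (h8 : Nat.card S = 8) {p : ℕ} (hp : p.Prime)
    (A : Subgroup (MulAut S)) (hA : Nat.card A = p) :
    Nat.card {x : S // ∀ a ∈ A, a x = x} ≡ 8 [MOD p] ∧
      Nat.card {x : S // ∀ a ∈ A, a x = x} ∣ 8 ∧ Nat.card {x : S // ∀ a ∈ A, a x = x} ≠ 8 := by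
  have : Fact p.Prime := ⟨hp⟩
  have hP : IsPGroup p A := IsPGroup.of_card (n := 1) (by rw [hA, pow_one])
  have h1 := hP.card_modEq_card_fixedPoints S
  let F : Subgroup S :=
    { carrier := {x | ∀ a ∈ A, a x = x}
      mul_mem' := fun {x y} hx hy a ha => by rw [map_mul, hx a ha, hy a ha]
      one_mem' := fun a _ => map_one a
      inv_mem' := fun {x} hx a ha => by rw [map_inv, hx a ha] }
  have e1 : Nat.card {x : S // ∀ a ∈ A, a x = x} = Nat.card F := rfl
  have e2 : Nat.card (MulAction.fixedPoints A S) = Nat.card F :=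
    Nat.card_congr (Equiv.subtypeEquivRight fun x =>
      ⟨fun h a ha => h ⟨a, ha⟩, fun h a => h a.1 a.2⟩)
  rw [e1]
  refine ⟨?_, h8 ▸ F.card_subgroup_dvd_card, fun h => ?_⟩
  · rw [← e2, ← h8]
    exact h1.symm
  · have hF : F = ⊤ := F.eq_top_of_card_eq (h.trans h8.symm)
    have hb : A = ⊥ := (eq_bot_iff_forall _).2 fun a ha => MulEquiv.ext fun x =>
      (hF ▸ mem_top x : x ∈ F) a ha
    rw [hb, card_bot] at hA
    exact hp.one_lt.ne hA

theorem grpB_tr {S : Type*} [Group S] [Finite S] (h8 : Nat.card S = 8) (B : Subgroup (MulAut S))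
    (hB : Nat.card B = 7) {u v : S} (hu : u ≠ 1) (hv : v ≠ 1) : ∃ a ∈ B, a u = v := by
  obtain ⟨h1, h2, h3⟩ := grpB_fix h8 (by decide) B hB
  have h4 : Nat.card {x : S // ∀ a ∈ B, a x = x} = 1 := by
    have := Nat.le_of_dvd (by decide) h2
    rw [Nat.ModEq] at h1
    omega
  have h5 : ∀ x : S, (∀ a ∈ B, a x = x) → x = 1 := fun x hx => by
    have := (Nat.card_eq_one_iff_unique.1 h4).1
    exact congrArg Subtype.val (this.elim ⟨x, hx⟩ ⟨1, fun a _ => map_one a⟩)
  have : Fact (Nat.card B).Prime := ⟨by rw [hB]; decide⟩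
  have h6 : MulAction.stabilizer B u = ⊥ :=
    ((MulAction.stabilizer B u).eq_bot_or_eq_top_of_prime_card).resolve_right fun h =>
      hu (h5 u fun a ha => (h ▸ mem_top _ : (⟨a, ha⟩ : B) ∈ MulAction.stabilizer B u))
  let f : B → {x : S // x ≠ 1} := fun s => ⟨s.1 u, by simpa using hu⟩
  have hi : Function.Injective f := fun s s' e => by
    have e' : s.1 u = s'.1 u := congrArg Subtype.val e
    have : s⁻¹ * s' ∈ MulAction.stabilizer B u := by
      change s.1⁻¹ (s'.1 u) = u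
      rw [← e']
      exact s.1.symm_apply_apply u
    rw [h6, mem_bot] at this
    exact inv_mul_eq_one.1 this
  have hs : Function.Surjective f := by
    refine (hi.bijective_of_nat_card_le ?_).2
    have := Fintype.ofFinite S
    classical
    rw [hB, Nat.card_eq_fintype_card, Fintype.card_subtype_compl, ← Nat.card_eq_fintype_card, h8]
    simp
  obtain ⟨s, e⟩ := hs ⟨v, hv⟩
  exact ⟨s.1, s.2, congrArg Subtype.val e⟩

theorem grpB {S : Type*} [Group S] (h8 : Nat.card S = 8) (hsq : ∀ u : S, u * u = 1)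
    (A : Subgroup (MulAut S)) (hA : ¬ 2 ∣ Nat.card A) :
    Nat.card A = 1 ∨ (Nat.card A = 3 ∧ Nat.card {x : S // ∀ a ∈ A, a x = x} = 2) ∨
      ((Nat.card A = 7 ∨ Nat.card A = 21) ∧ ∀ u v : S, u ≠ 1 → v ≠ 1 → ∃ a ∈ A, a u = v) := by
  have : Finite S := Nat.finite_of_card_ne_zero (by omega)
  have hi : ∀ x : S, x⁻¹ = x := fun x => inv_eq_of_mul_eq_one_right (hsq x)
  have : IsMulCommutative S := ⟨⟨fun a b => by rw [← hi (a * b), mul_inv_rev, hi, hi]⟩⟩
  have : ElemAb 2 S := ElemAb.of_isMulCommutative fun a => by rw [pow_two, hsq]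
  have hc : Nat.card (MulAut S) = 168 := by
    rw [Vec.card_mulAut (p := 2) (n := 3) h8]
    decide
  have hd : Nat.card A ∣ 8 * 21 := by
    have := A.card_subgroup_dvd_card
    rwa [hc] at this
  have hd' : Nat.card A ∣ 21 := by
    refine Nat.Coprime.dvd_of_dvd_mul_left ?_ hd
    exact (((Nat.Prime.coprime_iff_not_dvd Nat.prime_two).2 hA).symm.pow_right 3)
  have h7 : 7 ∣ Nat.card A → ∀ u v : S, u ≠ 1 → v ≠ 1 → ∃ a ∈ A, a u = v := fun h u v hu hv => by
    have : Fact (Nat.Prime 7) := ⟨by decide⟩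
    obtain ⟨t, ht⟩ := exists_prime_orderOf_dvd_card' (G := A) 7 h
    obtain ⟨a, ha, e⟩ := grpB_tr h8 (zpowers t.1) (by rw [Nat.card_zpowers, orderOf_coe, ht]) hu hv
    exact ⟨a, zpowers_le.2 t.2 ha, e⟩
  have hm : Nat.card A ∈ Nat.divisors 21 := Nat.mem_divisors.2 ⟨hd', by decide⟩
  have hl : Nat.divisors 21 = {1, 3, 7, 21} := by decide
  rw [hl] at hm
  simp only [Finset.mem_insert, Finset.mem_singleton] at hm
  rcases hm with h | h | h | h
  · exact Or.inl h
  · obtain ⟨h1, h2, h3⟩ := grpB_fix h8 (by decide) A h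
    refine Or.inr (Or.inl ⟨h, ?_⟩)
    have h4 := Nat.le_of_dvd (by decide) h2
    rw [Nat.ModEq] at h1
    have h5 : Nat.card {x : S // ∀ a ∈ A, a x = x} ≠ 5 := fun e => by
      rw [e] at h2
      omega
    omega
  · exact Or.inr (Or.inr ⟨Or.inl h, h7 (by rw [h])⟩)
  · exact Or.inr (Or.inr ⟨Or.inr h, h7 (by rw [h]; decide)⟩)

end Cfsg.Lib.KKL
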