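import Mathlib

set_option autoImplicit false

namespace Cfsg.Lib.KKL

namespace Even

open Matrix

variable {n : Type*} [Fintype n] [DecidableEq n]

/-- an elementary transvection as a permutation -/
def tv (i j : n) (hij : i ≠ j) (c : ZMod 2) : Equiv.Perm (n → ZMod 2) :=
  Function.Involutive.toPerm (fun v => v + Pi.single i (c * v j)) (by
    intro v
    ext x
    by_cases hx : x = i
    · subst hx
      simp [Pi.single_apply, hij.symm, add_assoc, CharTwo.add_self_eq_zero]
    · simp [Pi.single_apply, hx])

omit [Fintype n] in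
theorem tv_apply (i j : n) (hij : i ≠ j) (c : ZMod 2) (v : n → ZMod 2) :
    tv i j hij c v = v + Pi.single i (c * v j) := rfl

theorem sign_tv (h3 : 3 ≤ Fintype.card n) (i j : n) (hij : i ≠ j) (c : ZMod 2) :
    Equiv.Perm.sign (tv i j hij c) = 1 := by
  obtain ⟨k, hk⟩ : ∃ k : n, k ∉ ({i, j} : Finset n) := by
    by_contra! h
    have h1 : (Finset.univ : Finset n) ⊆ {i, j} := fun x _ => h x
    have h2 := Finset.card_le_card h1
    have h3' : ({i, j} : Finset n).card ≤ 2 := Finset.card_le_two
    rw [Finset.card_univ] at h2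
    omega
  simp only [Finset.mem_insert, Finset.mem_singleton, not_or] at hk
  obtain ⟨hki, hkj⟩ := hk
  have hik : i ≠ k := fun h => hki h.symm
  have h : tv i j hij c = (tv i k hik 1 * tv k j hkj c) * (tv i k hik 1 * tv k j hkj c) := by
    ext v x
    simp only [Equiv.Perm.mul_apply, tv_apply, Pi.add_apply, Pi.single_apply]
    by_cases hx : x = i
    · subst hx
      simp only [if_true, hik, hki, hij.symm, Ne.symm hkj, if_false, add_zero, one_mul]
      generalize v x = a
      generalize v k = b
      generalize c * v j = d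
      revert a b d
      decide
    · by_cases hx' : x = k
      · subst hx'
        simp only [if_true, hki, hij.symm, Ne.symm hkj, if_false, add_zero]
        generalize v x = a
        generalize c * v j = d
        revert a d
        decide
      · simp [hx, hx']
  rw [h, map_mul, Int.units_mul_self]

theorem ex_perm (A : Matrix n n (ZMod 2)) (hA : A.det ≠ 0) :
    ∃ s : Equiv.Perm (n → ZMod 2), ∀ v, s v = A *ᵥ v := by
  have hi : Function.Injective A.mulVec :=
    mulVec_injective_iff_isUnit.2 ((isUnit_iff_isUnit_det A).2 (Ne.isUnit hA))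
  exact ⟨Equiv.ofBijective _ (Finite.injective_iff_bijective.1 hi), fun v => rfl⟩

theorem core (h3 : 3 ≤ Fintype.card n) (M : Matrix n n (ZMod 2)) (hM : M.det ≠ 0) :
    ∀ s : Equiv.Perm (n → ZMod 2), (∀ v, s v = M *ᵥ v) → Equiv.Perm.sign s = 1 := by
  refine diagonal_transvection_induction_of_det_ne_zero
    (fun M : Matrix n n (ZMod 2) => ∀ s : Equiv.Perm (n → ZMod 2), (∀ v, s v = M *ᵥ v) →
      Equiv.Perm.sign s = 1) M hM ?_ ?_ ?_
  · intro D hD s hs
    have h1 : ∀ i, D i = 1 := by
      intro i
      rw [det_diagonal] at hD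
      have := Finset.prod_ne_zero_iff.1 hD i (Finset.mem_univ i)
      revert this
      generalize D i = a
      revert a
      decide
    have : s = 1 := by
      ext v x
      rw [hs, mulVec_diagonal, h1, one_mul]
      rfl
    rw [this, map_one]
  · intro t s hs
    have : s = tv t.i t.j t.hij t.c := by
      ext v x
      rw [hs, tv_apply, TransvectionStruct.toMatrix, transvection, add_mulVec, one_mulVec,
        single_mulVec]
      by_cases hx : x = t.i
      · subst hx
        simp
      · simp [hx]
    rw [this, sign_tv h3]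
  · intro A B hA hB ihA ihB s hs
    obtain ⟨a, ha⟩ := ex_perm A hA
    obtain ⟨b, hb⟩ := ex_perm B hB
    have : s = a * b := by
      refine Equiv.ext fun v => ?_
      rw [hs, Equiv.Perm.mul_apply, ha, hb, mulVec_mulVec]
    rw [this, map_mul, ihA a ha, ihB b hb, mul_one]

theorem two {W : Type*} [CommGroup W] (hW : ∀ w : W, w * w = 1) (x : Additive W) : 2 • x = 0 := by
  rw [two_nsmul]
  exact hW x.toMul

end Even

theorem even {W : Type*} [CommGroup W] [Fintype W] [DecidableEq W] (hW : ∀ w : W, w * w = 1)
    (h8 : 8 ≤ Nat.card W) (α : W ≃* W) : Equiv.Perm.sign α.toEquiv = 1 := by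
  letI : Module (ZMod 2) (Additive W) := AddCommGroup.zmodModule (Even.two hW)
  have : Module.Finite (ZMod 2) (Additive W) := Module.Finite.of_finite
  let b := Module.finBasis (ZMod 2) (Additive W)
  let e := b.equivFun
  have h3 : 3 ≤ Module.finrank (ZMod 2) (Additive W) := by
    have h1 : Nat.card W = 2 ^ Module.finrank (ZMod 2) (Additive W) := by
      have := Module.natCard_eq_pow_finrank (K := ZMod 2) (V := Additive W)
      rw [Nat.card_zmod] at this
      exact this
    by_contra! hlt
    have : 2 ^ Module.finrank (ZMod 2) (Additive W) ≤ 2 ^ 2 :=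
      Nat.pow_le_pow_right (by norm_num) (by omega)
    omega
  let f : Additive W →ₗ[ZMod 2] Additive W :=
    (MonoidHom.toAdditive α.toMonoidHom).toZModLinearMap 2
  let g := e.toLinearMap ∘ₗ f ∘ₗ e.symm.toLinearMap
  let ε : W ≃ (Fin (Module.finrank (ZMod 2) (Additive W)) → ZMod 2) :=
    Additive.ofMul.trans e.toEquiv
  have hs : ∀ v, ε.permCongr α.toEquiv v = (LinearMap.toMatrix' g).mulVec v := by
    intro v
    rw [LinearMap.toMatrix'_mulVec]
    rfl
  have hdet : (LinearMap.toMatrix' g).det ≠ 0 := by
    have hi : Function.Injective (LinearMap.toMatrix' g).mulVec := by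
      intro v w hvw
      exact (ε.permCongr α.toEquiv).injective (by rw [hs, hs]; exact hvw)
    exact ((Matrix.isUnit_iff_isUnit_det _).1 (Matrix.mulVec_injective_iff_isUnit.1 hi)).ne_zero
  rw [← Equiv.Perm.sign_permCongr ε]
  exact Even.core (by rw [Fintype.card_fin]; exact h3) _ hdet _ hs

theorem ext_aut {D W : Type*} [CommGroup D] [CommGroup W] [Finite W] (hW : ∀ w : W, w * w = 1)
    (i j : D →* W) (hi : Function.Injective i) (hj : Function.Injective j) :
    ∃ α : W ≃* W, ∀ u, α (i u) = j u := by
  have hD : ∀ u : D, u * u = 1 := fun u => hi (by rw [map_mul, hW, map_one])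
  letI : Module (ZMod 2) (Additive W) := AddCommGroup.zmodModule (Even.two hW)
  letI : Module (ZMod 2) (Additive D) := AddCommGroup.zmodModule (Even.two hD)
  have : Module.Finite (ZMod 2) (Additive W) := Module.Finite.of_finite
  let I : Additive D →ₗ[ZMod 2] Additive W := (MonoidHom.toAdditive i).toZModLinearMap 2
  let J : Additive D →ₗ[ZMod 2] Additive W := (MonoidHom.toAdditive j).toZModLinearMap 2
  have hI : Function.Injective I := hi
  have hJ : Function.Injective J := hj
  obtain ⟨g, hg⟩ := Submodule.exists_linearEquiv_restrict_eq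
    ((LinearEquiv.ofInjective I hI).symm.trans (LinearEquiv.ofInjective J hJ))
  refine ⟨AddEquiv.toMultiplicative g.toAddEquiv, fun u => ?_⟩
  have := hg (LinearEquiv.ofInjective I hI (Additive.ofMul u))
  rw [LinearEquiv.trans_apply, LinearEquiv.symm_apply_apply] at this
  exact this.symm

end Cfsg.Lib.KKL
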