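import Cfsg.Agent.KKL.Defs
import Cfsg.Agent.Char.Degree

/-! Tower KKL (statement S4546): the Gram matrix of an idempotent. -/

set_option autoImplicit false
set_option linter.unusedSectionVars false

open Cfsg Cfsg.Lib Cfsg.Lib.Char

namespace Cfsg.Lib.KKL

section Chr
variable {G : Type*} [Group G] [Fintype G] [DecidableEq G] {f : G → ℂ} {m : IrrCharacter G → ℕ}

theorem Idem.symm (g h : G) : Gm f g h = Gm f h g := by
  unfold Gm
  refine Fintype.sum_equiv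
    ⟨fun x => g⁻¹ * x⁻¹ * h⁻¹, fun y => h⁻¹ * y⁻¹ * g⁻¹, fun x => by group, fun y => by group⟩
    _ _ fun x => ?_
  have e : h⁻¹ * (g⁻¹ * x⁻¹ * h⁻¹)⁻¹ * g⁻¹ = x := by group
  simp only [Equiv.coe_fn_mk]
  rw [e, mul_comm]

theorem Idem.idem (h : Idem f m) (a b : G) : ∑ k, Gm f a k⁻¹ * Gm f k b = Gm f a b := by
  have h1 : ∀ x y : G, ∑ k, f (a⁻¹ * x⁻¹ * k⁻¹⁻¹) * f (k⁻¹ * y⁻¹ * b⁻¹) =
      f (a⁻¹ * (y * x)⁻¹ * b⁻¹) := fun x y => by
    rw [← h.sq (a⁻¹ * (y * x)⁻¹ * b⁻¹)]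
    refine Fintype.sum_equiv (Equiv.mulLeft (a⁻¹ * x⁻¹)) _ _ fun k => ?_
    simp only [Equiv.coe_mulLeft]
    congr 2 <;> group
  have h2 : ∑ k, Gm f a k⁻¹ * Gm f k b =
      ∑ y, ∑ x, f y * f x * f (a⁻¹ * (y * x)⁻¹ * b⁻¹) := by
    unfold Gm
    simp only [Finset.sum_mul_sum]
    simp only [← h1, Finset.mul_sum]
    rw [Finset.sum_comm]
    conv_rhs => rw [Finset.sum_comm]
    refine Finset.sum_congr rfl fun x _ => ?_
    rw [Finset.sum_comm]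
    refine Finset.sum_congr rfl fun y _ => Finset.sum_congr rfl fun k _ => ?_
    ring
  have h3 : ∀ y : G, ∑ x, f y * f x * f (a⁻¹ * (y * x)⁻¹ * b⁻¹) =
      ∑ z, f y * f (y⁻¹ * z) * f (a⁻¹ * z⁻¹ * b⁻¹) := fun y =>
    Fintype.sum_equiv (Equiv.mulLeft y) _ _ fun x => by
      simp only [Equiv.coe_mulLeft, inv_mul_cancel_left]
  rw [h2]
  simp only [h3]
  rw [Finset.sum_comm]
  unfold Gm
  refine Finset.sum_congr rfl fun z _ => ?_
  rw [← Finset.sum_mul, h.sq]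

theorem Idem.adj {u : G} (hu : ∀ g, f (u * g) = f (g * u)) (a b : G) :
    Gm f (u * a) b = Gm f a (b * u) := by
  unfold Gm
  refine Fintype.sum_equiv (MulAut.conj u⁻¹).toEquiv _ _ fun x => ?_
  have e : f x = f (u⁻¹ * x * u) := by
    have := hu (u⁻¹ * x)
    rwa [mul_inv_cancel_left] at this
  simp only [MulEquiv.toEquiv_eq_coe, EquivLike.coe_coe, MulAut.conj_apply, inv_inv]
  rw [← e]
  congr 2
  group

theorem Idem.tr (h : Idem f m) : ∑ g, Gm f g g⁻¹ = ∑ χ, (m χ : ℂ) ^ 2 := by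
  have hG : (Nat.card G : ℂ) ≠ 0 := Nat.cast_ne_zero.2 Nat.card_pos.ne'
  have h1 : ∀ w : G, (Nat.card G : ℂ) * f w⁻¹ =
      ∑ y, ∑ χ : IrrCharacter G, f y * ((χ : G → ℂ) 1 * (χ : G → ℂ) (y * w)) := fun w => by
    simp only [← Finset.mul_sum, sum_irr_degree_mul, mul_eq_one_iff_eq_inv, mul_ite, mul_zero,
      Finset.sum_ite_eq', Finset.mem_univ, if_true]
    ring
  have h2 : ∀ (χ : IrrCharacter G) (x y : G),
      ∑ g : G, (χ : G → ℂ) 1 * (χ : G → ℂ) (y * (g⁻¹ * x * g⁻¹⁻¹)) =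
        Nat.card G * ((χ : G → ℂ) y * (χ : G → ℂ) x) := fun χ x y => by
    have h0 : (χ : G → ℂ) 1 ≠ 0 := χ.2.apply_one_ne_zero
    have e := Equiv.sum_comp (Equiv.inv G) fun g => (χ : G → ℂ) (y * (g * x * g⁻¹))
    simp only [Equiv.inv_apply] at e
    rw [← Finset.mul_sum, e, irr_sum_mul_conj χ.2]
    field_simp
  apply mul_left_cancel₀ hG
  have h3 : ∀ g x : G, (Nat.card G : ℂ) * (f x * f (g⁻¹ * x⁻¹ * g⁻¹⁻¹)) =
      ∑ y, ∑ χ : IrrCharacter G,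
        f x * f y * ((χ : G → ℂ) 1 * (χ : G → ℂ) (y * (g⁻¹ * x * g⁻¹⁻¹))) := fun g x => by
    have e : g⁻¹ * x⁻¹ * g⁻¹⁻¹ = (g⁻¹ * x * g⁻¹⁻¹)⁻¹ := by group
    rw [e, mul_left_comm, h1]
    simp only [Finset.mul_sum, mul_assoc]
  have h4 : ∀ χ : IrrCharacter G, (Nat.card G : ℂ) * (m χ : ℂ) ^ 2 =
      ∑ x, ∑ y, ∑ g : G,
        f x * f y * ((χ : G → ℂ) 1 * (χ : G → ℂ) (y * (g⁻¹ * x * g⁻¹⁻¹))) := fun χ => by
    simp only [← Finset.mul_sum, h2]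
    rw [← h.rk, pow_two, Finset.sum_mul_sum]
    simp only [Finset.mul_sum]
    refine Finset.sum_congr rfl fun x _ => Finset.sum_congr rfl fun y _ => ?_
    ring
  unfold Gm
  simp only [Finset.mul_sum, h3, h4]
  rw [Finset.sum_comm]
  conv_rhs => rw [Finset.sum_comm]
  refine Finset.sum_congr rfl fun x _ => ?_
  rw [Finset.sum_comm]
  conv_rhs => rw [Finset.sum_comm]
  refine Finset.sum_congr rfl fun y _ => ?_
  rw [Finset.sum_comm]

theorem Idem.one (h : Idem f m) :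
    ∑ χ : IrrCharacter G, (χ : G → ℂ) 1 * m χ = Nat.card G * f 1 := by
  simp only [← h.rk, Finset.mul_sum]
  rw [Finset.sum_comm]
  have h1 : ∀ g : G, ∑ χ : IrrCharacter G, (χ : G → ℂ) 1 * (f g * (χ : G → ℂ) g) =
      f g * if g = 1 then (Nat.card G : ℂ) else 0 := fun g => by
    rw [← (by convert sum_irr_degree_mul g :
      ∑ χ : IrrCharacter G, (χ : G → ℂ) 1 * (χ : G → ℂ) g =
        if g = 1 then (Nat.card G : ℂ) else 0), Finset.mul_sum]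
    exact Finset.sum_congr rfl fun χ _ => by ring
  simp only [h1, mul_ite, mul_zero, Finset.sum_ite_eq', Finset.mem_univ, if_true]
  ring

end Chr

end Cfsg.Lib.KKL
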