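import Mathlib

set_option autoImplicit false

namespace Cfsg.Lib.KKL

namespace GrpA

theorem z1 {m : ℕ} (c : ZMod (2 * m)) : m • c = 0 ∨ m • c = (m : ZMod (2 * m)) := by
  obtain ⟨k, rfl⟩ := ZMod.intCast_surjective c
  have h0 : ((2 * m : ℕ) : ZMod (2 * m)) = 0 := ZMod.natCast_self _
  push_cast at h0
  obtain ⟨j, rfl | rfl⟩ := Int.even_or_odd' k
  · left; rw [nsmul_eq_mul]; push_cast; linear_combination (j : ZMod (2 * m)) * h0
  · right; rw [nsmul_eq_mul]; push_cast; linear_combination (j : ZMod (2 * m)) * h0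

theorem z2 {m : ℕ} (c : ZMod (2 * m)) (h : c + c = 0) : c = 0 ∨ c = (m : ZMod (2 * m)) := by
  obtain ⟨k, rfl⟩ := ZMod.intCast_surjective c
  have : ((2 * k : ℤ) : ZMod (2 * m)) = 0 := by push_cast; linear_combination h
  rw [ZMod.intCast_zmod_eq_zero_iff_dvd] at this
  push_cast at this
  obtain ⟨j, rfl⟩ := Int.dvd_of_mul_dvd_mul_left two_ne_zero this
  have := z1 (j : ZMod (2 * m))
  rw [nsmul_eq_mul] at this
  push_cast
  exact this

theorem core {P K : Type*} [CommGroup P] [Finite P] [Group K] {n : ℕ} {x z : P} (hz : z ≠ 1)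
    (hx : x ^ 2 ^ n = z) (h1 : ∀ y : P, y ^ 2 ^ n = 1 ∨ y ^ 2 ^ n = z) (hzz : z * z = 1)
    (p : P →* P) (hp : p z = z) (h2 : ∀ w : P, w * w = 1 → p w = 1 ∨ p w = z)
    (j : K → P) (r : P →* K) (hj : ∀ t, j t * j t = 1) (hr : ∀ t, r (j t) = t) (hrz : r z = 1)
    (hK : Nat.card K = 8) (hc : Nat.card P = 2 ^ (n + 1) * 8)
    (A : Subgroup (MulAut P)) (hA : ¬ 2 ∣ Nat.card A) :
    ∃ (u : P) (V : Subgroup P), orderOf u = 2 ^ (n + 1) ∧ (∀ a ∈ A, a u = u) ∧ Nat.card V = 8 ∧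
      (∀ v ∈ V, v * v = 1) ∧ (∀ a ∈ A, ∀ v ∈ V, a v ∈ V) ∧
      (Subgroup.zpowers u).IsComplement' V := by
  classical
  haveI : Fact (Nat.Prime 2) := ⟨Nat.prime_two⟩
  haveI : Fintype A := Fintype.ofFinite A
  have hz2 : z ^ 2 = 1 := by rw [sq, hzz]
  have hpw : ∀ k : ℕ, z ^ k = 1 ∨ z ^ k = z := fun k => by
    obtain ⟨i, rfl | rfl⟩ := Nat.even_or_odd' k
    · left; rw [pow_mul, hz2, one_pow]
    · right; rw [pow_succ, pow_mul, hz2, one_pow, one_mul]
  have hzA : z ^ Fintype.card A = z := by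
    rw [← Nat.card_eq_fintype_card]
    obtain ⟨i, hi⟩ := Nat.odd_iff.2 (Nat.two_dvd_ne_zero.1 hA)
    rw [hi, pow_succ, pow_mul, hz2, one_pow, one_mul]
  have haz : ∀ a : MulAut P, a z = z := fun a => by
    rcases h1 (a x) with h | h
    · rw [← map_pow, hx, map_eq_one_iff _ a.injective] at h; exact absurd h hz
    · rwa [← map_pow, hx] at h
  set u : P := ∏ a : A, (a : MulAut P) x with hu
  have hun : u ^ 2 ^ n = z := by
    rw [hu, ← Finset.prod_pow]
    simp only [← map_pow, hx, haz]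
    rw [Finset.prod_const, Finset.card_univ, hzA]
  have hou : orderOf u = 2 ^ (n + 1) :=
    orderOf_eq_prime_pow (by rw [hun]; exact hz) (by rw [pow_succ, pow_mul, hun, hz2])
  let F : P →* P :=
    { toFun := fun y => ∏ a : A, p ((a : MulAut P) y)
      map_one' := by simp
      map_mul' := fun y w => by simp [Finset.prod_mul_distrib] }
  have hF : ∀ y, F y = ∏ a : A, p ((a : MulAut P) y) := fun _ => rfl
  have hFz : F z = z := by
    rw [hF]; simp only [haz, hp]; rw [Finset.prod_const, Finset.card_univ, hzA]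
  have hFa : ∀ a ∈ A, ∀ y, F (a y) = F y := fun a ha y => by
    rw [hF, hF]
    exact Fintype.prod_equiv (Equiv.mulRight (⟨a, ha⟩ : A)) _ _ fun b => rfl
  have hF2 : ∀ w, w * w = 1 → F w = 1 ∨ F w = z := fun w hw => by
    rw [hF]
    refine Finset.prod_induction _ (fun t => t = 1 ∨ t = z) ?_ (Or.inl rfl) fun a _ => ?_
    · rintro s t (rfl | rfl) (rfl | rfl) <;> simp [hzz]
    · exact h2 _ (by rw [← map_mul, hw, map_one])
  let V : Subgroup P := (powMonoidHom 2 : P →* P).ker ⊓ F.ker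
  have hV : ∀ v, v ∈ V ↔ v * v = 1 ∧ F v = 1 := fun v => by
    simp [V, MonoidHom.mem_ker, sq]
  have hd : Disjoint (Subgroup.zpowers u) V := by
    rw [Subgroup.disjoint_def]
    intro y hy hv
    rw [mem_zpowers_iff_mem_range_orderOf, Finset.mem_image] at hy
    obtain ⟨k, -, rfl⟩ := hy
    obtain ⟨ha, hb⟩ := (hV _).1 hv
    rw [← pow_add, ← orderOf_dvd_iff_pow_eq_one, hou, ← mul_two, pow_succ] at ha
    obtain ⟨i, rfl⟩ := Nat.dvd_of_mul_dvd_mul_right two_pos ha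
    rw [pow_mul, hun] at hb ⊢
    rcases hpw i with h | h
    · exact h
    · rw [h, hFz] at hb; exact absurd hb hz
  have hge : 8 ≤ Nat.card V := by
    rw [← hK]
    refine Nat.card_le_card_of_injective (fun t => (⟨j t * F (j t), ?_⟩ : V)) fun s t h => ?_
    · rw [hV]
      rcases hF2 _ (hj t) with h | h
      · simp [h, hj]
      · refine ⟨?_, by rw [map_mul, h, hFz, hzz]⟩
        rw [h, mul_mul_mul_comm, hj, hzz, one_mul]
    · have e : ∀ t, r (j t * F (j t)) = t := fun t => by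
        rcases hF2 _ (hj t) with h | h <;> simp [h, hr, hrz]
      have h' : j s * F (j s) = j t * F (j t) := congrArg Subtype.val h
      rw [← e s, h', e]
  have hle : Nat.card (Subgroup.zpowers u × V) ≤ Nat.card P :=
    Nat.card_le_card_of_injective _ (Subgroup.mul_injective_of_disjoint hd)
  rw [Nat.card_prod, Nat.card_zpowers, hou, hc] at hle
  have h8 : Nat.card V = 8 := le_antisymm (Nat.le_of_mul_le_mul_left hle (by positivity)) hge
  refine ⟨u, V, hou, fun a ha => ?_, h8, fun v hv => ((hV v).1 hv).1, fun a ha v hv => ?_, ?_⟩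
  · rw [hu, map_prod]
    exact Fintype.prod_equiv (Equiv.mulLeft (⟨a, ha⟩ : A)) _ _ fun b => rfl
  · rw [hV] at hv ⊢
    exact ⟨by rw [← map_mul, hv.1, map_one], by rw [hFa a ha, hv.2]⟩
  · exact Subgroup.isComplement'_of_card_mul_and_disjoint
      (by rw [Nat.card_zpowers, hou, h8, hc]) hd

end GrpA

theorem grpA {P : Type*} [Group P] {n : ℕ} (hn : 2 ≤ n)
    (hP : Nonempty (P ≃* Multiplicative (ZMod (2 ^ n) × ZMod 2 × ZMod 2 × ZMod 2)))
    (A : Subgroup (MulAut P)) (hA : ¬ 2 ∣ Nat.card A) :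
    ∃ (u : P) (V : Subgroup P), orderOf u = 2 ^ n ∧ (∀ a ∈ A, a u = u) ∧ Nat.card V = 8 ∧
      (∀ v ∈ V, v * v = 1) ∧ (∀ a ∈ A, ∀ v ∈ V, a v ∈ V) ∧
      (Subgroup.zpowers u).IsComplement' V := by
  obtain ⟨k, rfl⟩ : ∃ k, n = k + 1 + 1 := ⟨n - 2, by omega⟩
  have hN : 2 ^ (k + 1 + 1) = 2 * 2 ^ (k + 1) := pow_succ' _ _
  have hc : Nat.card P = 2 ^ (k + 1 + 1) * 8 := by
    obtain ⟨e⟩ := hP
    rw [Nat.card_congr e.toEquiv, Nat.card_congr Multiplicative.toAdd]
    simp [Nat.card_prod]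
  rw [hN] at hP
  obtain ⟨e⟩ := hP
  set m := 2 ^ (k + 1) with hm
  haveI : NeZero (2 * m) := ⟨by positivity⟩
  haveI : Finite P := Finite.of_equiv _ e.toEquiv.symm
  letI : CommGroup P := { ‹Group P› with
    mul_comm := fun a b => e.injective (by rw [map_mul, map_mul]; exact mul_comm _ _) }
  have hK : ∀ t : ZMod 2 × ZMod 2 × ZMod 2, t + t = 0 := by decide
  have hmK : ∀ t : ZMod 2 × ZMod 2 × ZMod 2, m • t = 0 := fun t => by
    rw [hm, pow_succ, mul_nsmul', two_nsmul, hK, nsmul_zero]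
  have h0 : ((2 * m : ℕ) : ZMod (2 * m)) = 0 := ZMod.natCast_self _
  refine GrpA.core (K := Multiplicative (ZMod 2 × ZMod 2 × ZMod 2)) (n := k + 1)
    (x := e.symm (Multiplicative.ofAdd (1, 0)))
    (z := e.symm (Multiplicative.ofAdd ((m : ZMod (2 * m)), 0))) ?_ ?_ ?_ ?_
    (e.symm.toMonoidHom.comp ((AddMonoidHom.toMultiplicative
      ((AddMonoidHom.inl _ _).comp (AddMonoidHom.fst _ _))).comp e.toMonoidHom)) ?_ ?_
    (fun t => e.symm (Multiplicative.ofAdd (0, t.toAdd)))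
    ((AddMonoidHom.toMultiplicative (AddMonoidHom.snd _ _)).comp e.toMonoidHom) ?_ ?_ ?_ ?_ hc A hA
  · rw [Ne, map_eq_one_iff _ e.symm.injective, ofAdd_eq_one, Prod.mk_eq_zero, ZMod.natCast_eq_zero_iff]
    rintro ⟨h, -⟩
    have := Nat.le_of_dvd (by positivity) h
    have : 0 < m := by positivity
    omega
  · rw [← map_pow, ← ofAdd_nsmul, ← hm]; simp
  · intro y
    obtain ⟨t, rfl⟩ := e.symm.surjective y
    obtain ⟨⟨c, t⟩, rfl⟩ := Multiplicative.ofAdd.surjective t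
    rw [← map_pow, ← ofAdd_nsmul, ← hm, Prod.smul_mk, hmK]
    rcases GrpA.z1 c with h | h
    · left; rw [h]; exact map_one e.symm
    · right; rw [h]
  · rw [← map_mul, ← ofAdd_add, Prod.mk_add_mk, ← Nat.cast_add, ← two_mul, h0, add_zero]
    exact map_one e.symm
  · simp
  · intro w hw
    obtain ⟨t, rfl⟩ := e.symm.surjective w
    obtain ⟨⟨c, t⟩, rfl⟩ := Multiplicative.ofAdd.surjective t
    rw [← map_mul, map_eq_one_iff _ e.symm.injective, ← ofAdd_add, ofAdd_eq_one, Prod.mk_add_mk,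
      Prod.mk_eq_zero] at hw
    rcases GrpA.z2 c hw.1 with h | h
    · left; subst h; simp
    · right; subst h; simp
  · intro t
    rw [← map_mul, ← ofAdd_add, Prod.mk_add_mk, hK, add_zero]
    exact map_one e.symm
  · intro t; simp
  · simp
  · simp [Nat.card_prod]

end Cfsg.Lib.KKL
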