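import Cfsg.Agent.KKL.Defs
import Cfsg.Agent.Block.Orth
import Cfsg.Agent.Block.Osima

/-! Tower KKL: the idempotent `e_B e_λ` for a linear character `λ` of a cyclic group of odd order. -/

set_option autoImplicit false

open Cfsg Cfsg.Lib Cfsg.Lib.Char Cfsg.Lib.Block MulAction

namespace Cfsg.Lib.KKL

universe u

namespace IdA

theorem per {A : Type*} [AddCommGroup A] (c : ℕ → A) (o : ℕ) (h : ∀ j, c (j + o) = c j) (k : ℕ) :
    ∑ j ∈ Finset.range o, c (j + k) = ∑ j ∈ Finset.range o, c j := by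
  induction k with
  | zero => rfl
  | succ k ih =>
    rw [← ih]
    have h1 := Finset.sum_range_succ (fun j => c (j + k)) o
    have h2 := Finset.sum_range_succ' (fun j => c (j + k)) o
    have h3 : c (o + k) = c (0 + k) := by rw [add_comm o, h, zero_add]
    rw [h1, h3] at h2
    rw [add_right_cancel h2]
    exact Finset.sum_congr rfl fun j _ => by congr 1; omega

theorem dbl {A : Type*} [AddCommGroup A] (c : ℕ → A) (o : ℕ) (h : ∀ j, c (j + o) = c j) :
    ∑ k ∈ Finset.range o, ∑ j ∈ Finset.range o, c (j + k) = o • ∑ j ∈ Finset.range o, c j := by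
  rw [Finset.sum_congr rfl fun k _ => per c o h k, Finset.sum_const, Finset.card_range]

theorem nat {G : Type*} [Group G] [Finite G] {χ : G → ℂ} (hχ : IsCharacter G χ) (y : G) {ω : ℂ}
    (hω : ω ^ orderOf y = 1) :
    ∃ n : ℕ, (orderOf y : ℂ) * n = ∑ j ∈ Finset.range (orderOf y), ω ^ j * χ (y ^ j) := by
  obtain ⟨d, ρ, rfl⟩ := hχ
  have ho : (orderOf y : ℂ) ≠ 0 := Nat.cast_ne_zero.2 (orderOf_pos y).ne'
  set S : Module.End ℂ (Fin d → ℂ) := ∑ j ∈ Finset.range (orderOf y), ω ^ j • ρ (y ^ j) with hS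
  have h1 : S * S = (orderOf y : ℂ) • S := by
    have := dbl (fun j => ω ^ j • ρ (y ^ j)) (orderOf y) fun j => by
      rw [pow_add, pow_add, hω, pow_orderOf_eq_one, mul_one, mul_one]
    rw [Nat.cast_smul_eq_nsmul, hS, ← this, Finset.sum_mul_sum, Finset.sum_comm]
    refine Finset.sum_congr rfl fun k _ => Finset.sum_congr rfl fun j _ => ?_
    rw [smul_mul_smul_comm, ← map_mul, pow_add, pow_add]
  have h2 : IsIdempotentElem ((orderOf y : ℂ)⁻¹ • S) := by
    rw [IsIdempotentElem, smul_mul_smul_comm, h1, smul_smul, mul_assoc, inv_mul_cancel₀ ho, mul_one]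
  have h3 := (LinearMap.IsIdempotentElem.isProj_range _ h2).trace
  refine ⟨Module.finrank ℂ (LinearMap.range ((orderOf y : ℂ)⁻¹ • S)), ?_⟩
  rw [← h3, map_smul, smul_eq_mul, mul_inv_cancel_left₀ ho, hS, map_sum]
  exact Finset.sum_congr rfl fun j _ => by rw [map_smul, smul_eq_mul]; rfl

end IdA

section Blk
variable {G : Type u} [Group G] [Fintype G] [DecidableEq G] {M : Ideal AlgInt}
  {B : Set (IrrCharacter G)} {D : Subgroup G}

open Classical in
theorem idA (hM : IsPModular 2 M) (hB : IsPBlock M B) {y : G} (hy : Odd (orderOf y)) {ω : ℂ}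
    (hω : ω ^ orderOf y = 1) :
    ∃ (f : G → ℂ) (m : IrrCharacter G → ℕ), Idem f m ∧ (∀ g, vM M (f g) ≤ 1) ∧
      (∀ g, IsIntegral ℚ (f g)) ∧ (∀ u, u * y = y * u → ∀ g, f (u * g) = f (g * u)) ∧
      (∀ σ : ℂ ≃+* ℂ, σ ω = ω → (∀ χ ∈ B, ∀ g, σ ((χ : G → ℂ) g) = (χ : G → ℂ) g) →
        ∀ g, σ (f g) = f g) ∧
      ∀ χ : IrrCharacter G, (orderOf y : ℂ) * m χ = if χ ∈ B then
        ∑ j ∈ Finset.range (orderOf y), ω ^ j * (χ : G → ℂ) (y ^ j) else 0 := by
  have ho : (orderOf y : ℂ) ≠ 0 := Nat.cast_ne_zero.2 (orderOf_pos y).ne'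
  choose n hn using fun χ : IrrCharacter G => IdA.nat χ.2.isCharacter y hω
  have hωi : IsIntegral ℤ ω := IsIntegral.of_pow (orderOf_pos y) (hω ▸ isIntegral_one)
  have hsw : ∀ a b : G, blockCoeff B (a * b) = blockCoeff B (b * a) := fun a b => by
    rw [← blockCoeff_conj B a (b * a)]; congr 1; group
  have hm : ∀ χ : IrrCharacter G, (orderOf y : ℂ) * ((if χ ∈ B then n χ else 0 : ℕ) : ℂ) =
      if χ ∈ B then ∑ j ∈ Finset.range (orderOf y), ω ^ j * (χ : G → ℂ) (y ^ j) else 0 :=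
    fun χ => by
      split_ifs
      · exact hn χ
      · simp
  refine ⟨fun g => (orderOf y : ℂ)⁻¹ * ∑ j ∈ Finset.range (orderOf y),
    ω ^ j * blockCoeff B (g * (y ^ j)⁻¹), fun χ => if χ ∈ B then n χ else 0, ⟨fun z => ?_,
    fun χ => ?_⟩, fun g => ?_, fun g => ?_, fun u hu g => ?_, fun σ h1 h2 g => ?_, hm⟩
  · have h1 := IdA.dbl (fun j => ω ^ j * blockCoeff B (z * (y ^ j)⁻¹)) (orderOf y) fun j => by
      rw [pow_add, pow_add, hω, pow_orderOf_eq_one, mul_one, mul_one]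
    have h2 : ∀ j k : ℕ, ∑ x, blockCoeff B (x * (y ^ k)⁻¹) * blockCoeff B (x⁻¹ * z * (y ^ j)⁻¹) =
        blockCoeff B (z * (y ^ (j + k))⁻¹) := fun j k => by
      rw [← blockCoeff_conv B (z * (y ^ (j + k))⁻¹), ← Equiv.sum_comp (Equiv.mulRight (y ^ k))]
      refine Finset.sum_congr rfl fun x _ => ?_
      rw [Equiv.coe_mulRight, mul_inv_cancel_right, mul_inv_rev, mul_assoc, mul_assoc, hsw,
        add_comm j, pow_add, mul_inv_rev]
      simp only [mul_assoc]
    have h3 : ∑ x, (∑ k ∈ Finset.range (orderOf y), ω ^ k * blockCoeff B (x * (y ^ k)⁻¹)) *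
        ∑ j ∈ Finset.range (orderOf y), ω ^ j * blockCoeff B (x⁻¹ * z * (y ^ j)⁻¹) =
        orderOf y * ∑ j ∈ Finset.range (orderOf y), ω ^ j * blockCoeff B (z * (y ^ j)⁻¹) := by
      rw [← nsmul_eq_mul, ← h1]
      simp only [Finset.sum_mul_sum]
      rw [Finset.sum_comm]
      refine Finset.sum_congr rfl fun k _ => ?_
      rw [Finset.sum_comm]
      refine Finset.sum_congr rfl fun j _ => ?_
      rw [← h2, Finset.mul_sum]
      exact Finset.sum_congr rfl fun x _ => by ring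
    simp only [mul_mul_mul_comm (orderOf y : ℂ)⁻¹]
    rw [← Finset.mul_sum, h3]
    field_simp
  · refine mul_left_cancel₀ ho ?_
    rw [hm]
    simp only [mul_assoc, ← Finset.mul_sum]
    rw [mul_inv_cancel_left₀ ho]
    simp only [Finset.sum_mul]
    rw [Finset.sum_comm]
    have h1 : ∀ j : ℕ, ∑ g, ω ^ j * blockCoeff B (g * (y ^ j)⁻¹) * (χ : G → ℂ) g =
        ω ^ j * (Ht.om χ (blockCoeff B) * (χ : G → ℂ) (y ^ j)) := fun j => by
      rw [← sum_classFun_mul_irr_mul χ.2 (isClassFunction_blockCoeff B), Finset.mul_sum,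
        ← Equiv.sum_comp (Equiv.mulRight (y ^ j)) fun g => ω ^ j * blockCoeff B (g * (y ^ j)⁻¹) * (χ : G → ℂ) g]
      exact Finset.sum_congr rfl fun x _ => by
        rw [Equiv.coe_mulRight, mul_inv_cancel_right, mul_assoc]
    simp only [h1]
    split_ifs with h
    · simp only [Ht.om_blockCoeff_of_mem h, one_mul]
    · simp [Ht.om_blockCoeff_of_notMem h]
  · refine vM_mul_le_one ?_ (vM_sum_le_one fun j _ => vM_mul_le_one
      (vM_le_one_of_isIntegral (hωi.pow j)) (vM_blockCoeff_le_one hM hB _))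
    rw [map_inv₀, (vM_natCast_eq_one_iff hM _).2 hy.not_two_dvd_nat, inv_one]
  · have h1 : IsIntegral ℚ ((orderOf y : ℂ)⁻¹) := (isAlgebraic_natCast _).inv.isIntegral
    refine h1.mul (IsIntegral.sum _ fun j _ => (hωi.tower_top.pow j).mul ?_)
    exact ((isAlgebraic_blockCoeff B _).extendScalars (algebraMap ℤ ℚ).injective_int).isIntegral
  · refine congrArg ((orderOf y : ℂ)⁻¹ * ·) (Finset.sum_congr rfl fun j _ => ?_)
    have h1 : Commute u (y ^ j)⁻¹ := (Commute.pow_right hu j).inv_right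
    rw [mul_assoc u, hsw u, mul_assoc, mul_assoc, h1.eq]
  · have h3 : ∀ x, σ (blockCoeff B x) = blockCoeff B x := fun x => by
      rw [blockCoeff_eq_inv, map_mul, map_inv₀, map_natCast, map_sum]
      congr 1
      refine Finset.sum_congr rfl fun χ _ => ?_
      split_ifs with h
      · rw [map_mul, h2 χ h, h2 χ h]
      · exact map_zero σ
    simp only [map_mul, map_inv₀, map_natCast, map_sum, map_pow, h1, h3]

end Blk

end Cfsg.Lib.KKL
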