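import Mathlib

/-! A matrix invariant under a free action of an elementary abelian group of order eight has
determinant a square modulo four. -/

set_option autoImplicit false

namespace Cfsg.Lib.KKL

namespace Norm

theorem det_blk {O J : Type*} [CommRing O] [Fintype J] [DecidableEq J] (A B : Matrix J J O) :
    (Matrix.fromBlocks A B B A).det = (A + B).det * (A - B).det := by
  have h : Matrix.fromBlocks (1 : Matrix J J O) 1 0 1 * Matrix.fromBlocks A B B A *
      Matrix.fromBlocks (1 : Matrix J J O) (-1) 0 1 = Matrix.fromBlocks (A + B) 0 B (A - B) := by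
    simp only [Matrix.fromBlocks_multiply, Matrix.one_mul, Matrix.mul_one, Matrix.zero_mul,
      Matrix.mul_zero, Matrix.mul_neg, add_zero, zero_add]
    congr 1 <;> abel
  have h2 := congrArg Matrix.det h
  rw [Matrix.det_mul, Matrix.det_mul, Matrix.det_fromBlocks_zero₂₁, Matrix.det_fromBlocks_zero₂₁,
    Matrix.det_fromBlocks_zero₁₂] at h2
  simpa using h2

/-- the image of the group ring of a four-group -/
def S (O : Type*) [CommRing O] : Subring (O × O × O × O) where
  carrier := {t | ∃ a b c d : O, t = (a + c + (b + d), a + c - (b + d), a - c + (b - d),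
    a - c - (b - d))}
  one_mem' := ⟨1, 0, 0, 0, by ext <;> simp⟩
  zero_mem' := ⟨0, 0, 0, 0, by ext <;> simp⟩
  add_mem' := by
    rintro _ _ ⟨a, b, c, d, rfl⟩ ⟨a', b', c', d', rfl⟩
    exact ⟨a + a', b + b', c + c', d + d', by ext <;> simp <;> ring⟩
  neg_mem' := by
    rintro _ ⟨a, b, c, d, rfl⟩
    exact ⟨-a, -b, -c, -d, by ext <;> simp <;> ring⟩
  mul_mem' := by
    rintro _ _ ⟨a, b, c, d, rfl⟩ ⟨a', b', c', d', rfl⟩
    exact ⟨a * a' + b * b' + c * c' + d * d', a * b' + b * a' + c * d' + d * c',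
      a * c' + c * a' + b * d' + d * b', a * d' + d * a' + b * c' + c * b',
      by ext <;> simp <;> ring⟩

theorem S_eq_1' : type_of% @S.eq_1 := @S.eq_1

theorem four {O J : Type*} [CommRing O] [Fintype J] [DecidableEq J] (A B C D : Matrix J J O) :
    ∃ W Z : O, (A + C + (B + D)).det * (A + C - (B + D)).det *
      ((A - C + (B - D)).det * (A - C - (B - D)).det) = W ^ 2 + 4 * Z := by
  let M : Matrix J J (S O) := fun i j => ⟨_, A i j, B i j, C i j, D i j, rfl⟩
  obtain ⟨a, b, c, d, h⟩ := M.det.2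
  have h1 := ((RingHom.fst O _).comp (S O).subtype).map_det M
  have h2 := ((RingHom.fst O _).comp ((RingHom.snd O _).comp (S O).subtype)).map_det M
  have h3 := ((RingHom.fst O _).comp ((RingHom.snd O _).comp ((RingHom.snd O _).comp
    (S O).subtype))).map_det M
  have h4 := ((RingHom.snd O _).comp ((RingHom.snd O _).comp ((RingHom.snd O _).comp
    (S O).subtype))).map_det M
  simp only [RingHom.comp_apply, Subring.subtype_apply, h, RingHom.coe_fst, RingHom.coe_snd]
    at h1 h2 h3 h4
  have e1 : (A + C + (B + D)).det = a + c + (b + d) := by rw [h1]; rfl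
  have e2 : (A + C - (B + D)).det = a + c - (b + d) := by rw [h2]; rfl
  have e3 : (A - C + (B - D)).det = a - c + (b - d) := by rw [h3]; rfl
  have e4 : (A - C - (B - D)).det = a - c - (b - d) := by rw [h4]; rfl
  rw [e1, e2, e3, e4]
  exact ⟨(a + c) ^ 2 - (b + d) ^ 2, ((a + c) ^ 2 - (b + d) ^ 2) * (b * d - a * c), by ring⟩

end Norm

theorem nrm {O D Ω : Type*} [CommRing O] [CommGroup D] (h8 : Nat.card D = 8)
    (hD : ∀ u : D, u * u = 1) [Fintype Ω] [DecidableEq Ω] (L : D →* Equiv.Perm Ω)
    (hL : ∀ u x, L u x = x → u = 1) (N : Matrix Ω Ω O) (hN : ∀ u x y, N (L u x) (L u y) = N x y) :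
    ∃ W Z : O, N.det = W ^ 2 + 4 * Z := by
  classical
  have : Finite D := Nat.finite_of_card_ne_zero (by omega)
  have := Fintype.ofFinite D
  obtain ⟨a, b, ha, hb, hab⟩ : ∃ a b : D, a ≠ 1 ∧ b ≠ 1 ∧ a ≠ b := by
    obtain ⟨x, y, z, h1, h2, h3⟩ := (Fintype.two_lt_card_iff (α := D)).1
      (by rw [← Nat.card_eq_fintype_card]; omega)
    exact ⟨x * z⁻¹, y * z⁻¹, fun h => h2 (mul_inv_eq_one.1 h), fun h => h3 (mul_inv_eq_one.1 h),
      fun h => h1 (mul_right_cancel h)⟩
  have hm : ∀ u v x, L u (L v x) = L (u * v) x := fun u v x => by simp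
  have h1 : ∀ x, L 1 x = x := fun x => by simp
  have hinj : ∀ u v x, L u x = L v x → u = v := fun u v x h => by
    have : L (v * u) x = x := by rw [← hm, h, hm, hD, h1]
    have h2 := hL _ _ this
    calc u = v * v * u := by rw [hD, one_mul]
      _ = v := by rw [mul_assoc, h2, mul_one]
  have haa := hD a
  have hbb := hD b
  have q1 : a * (a * b) = b := by rw [← mul_assoc, haa, one_mul]
  have q2 : b * (a * b) = a := by rw [mul_left_comm, hbb, mul_one]
  have q3 : a * b * a = b := by rw [mul_comm, q1]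
  have q4 : a * b * b = a := by rw [mul_comm, q2]
  have q5 : b * a = a * b := mul_comm _ _
  have q6 := hD (a * b)
  have n1 : a * b ≠ 1 := fun h => hab (by rw [← q4, h, one_mul])
  have n2 : a * b ≠ a := fun h => hb (by rw [← q1, h, haa])
  have n3 : a * b ≠ b := fun h => ha (by rw [← q2, h, hbb])
  let V : D → Prop := fun u => u = 1 ∨ u = a ∨ u = b ∨ u = a * b
  have hV : ∀ u v, V u → V v → V (u * v) := by
    rintro u v (rfl | rfl | rfl | rfl) (rfl | h | h | h) <;>
      simp only [V, *, one_mul, mul_one, true_or, or_true]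
  let s : Setoid Ω :=
    ⟨fun x y => ∃ u, V u ∧ L u x = y, fun x => ⟨1, Or.inl rfl, h1 x⟩,
      fun ⟨u, hu, h⟩ => ⟨u, hu, by rw [← h, hm, hD, h1]⟩,
      fun ⟨u, hu, h⟩ ⟨v, hv, h'⟩ => ⟨v * u, hV _ _ hv hu, by rw [← hm, h, h']⟩⟩
  let g : (Quotient s ⊕ Quotient s) ⊕ (Quotient s ⊕ Quotient s) → D × Quotient s :=
    Sum.elim (Sum.elim (fun q => (1, q)) fun q => (a, q))
      (Sum.elim (fun q => (b, q)) fun q => (a * b, q))
  have gV : ∀ i, V (g i).1 := by
    rintro ((q | q) | (q | q)) <;> simp [g, V]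
  have gi : Function.Injective g := by
    rintro ((q | q) | (q | q)) ((r | r) | (r | r)) h <;>
      first
        | exact absurd (congrArg Prod.fst h) (by first | assumption | (apply Ne.symm; assumption))
        | (rw [show q = r from congrArg Prod.snd h])
  let e : (Quotient s ⊕ Quotient s) ⊕ (Quotient s ⊕ Quotient s) → Ω :=
    fun i => L (g i).1 (g i).2.out
  have he : Function.Bijective e := by
    constructor
    · intro i j h
      have hq : (g i).2 = (g j).2 := by
        rw [← Quotient.out_eq (g i).2, ← Quotient.out_eq (g j).2]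
        refine Quotient.sound ⟨(g j).1 * (g i).1, hV _ _ (gV j) (gV i), ?_⟩
        rw [← hm, show L (g i).1 (g i).2.out = L (g j).1 (g j).2.out from h, hm, hD, h1]
      refine gi (Prod.ext (hinj _ _ (g j).2.out ?_) hq)
      rw [← show L (g i).1 (g i).2.out = L (g j).1 (g j).2.out from h, hq]
    · intro x
      obtain ⟨u, hu, h⟩ : s.r (Quotient.mk s x).out x := Quotient.exact (Quotient.out_eq _)
      rcases hu with rfl | rfl | rfl | rfl
      exacts [⟨.inl (.inl _), h⟩, ⟨.inl (.inr _), h⟩, ⟨.inr (.inl _), h⟩, ⟨.inr (.inr _), h⟩]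
  let H : D → Matrix (Quotient s) (Quotient s) O := fun u q r => N q.out (L u r.out)
  have hH : ∀ u v (q r : Quotient s), N (L u q.out) (L v r.out) = H (u * v) q r := fun u v q r => by
    rw [← hN u, hm, hm, hD, h1]
  have hs : N.submatrix (Equiv.ofBijective e he) (Equiv.ofBijective e he) =
      Matrix.fromBlocks (Matrix.fromBlocks (H 1) (H a) (H a) (H 1))
        (Matrix.fromBlocks (H b) (H (a * b)) (H (a * b)) (H b))
        (Matrix.fromBlocks (H b) (H (a * b)) (H (a * b)) (H b))
        (Matrix.fromBlocks (H 1) (H a) (H a) (H 1)) := by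
    ext ((q | q) | (q | q)) ((r | r) | (r | r)) <;>
      simp only [Matrix.submatrix_apply, Equiv.ofBijective_apply, e, g, Sum.elim_inl, Sum.elim_inr,
        hH, Matrix.fromBlocks_apply₁₁, Matrix.fromBlocks_apply₁₂, Matrix.fromBlocks_apply₂₁,
        Matrix.fromBlocks_apply₂₂, one_mul, mul_one, haa, hbb, q1, q2, q3, q4, q5, q6]
  rw [← Matrix.det_submatrix_equiv_self (Equiv.ofBijective e he), hs, Norm.det_blk,
    Matrix.fromBlocks_add, sub_eq_add_neg, Matrix.fromBlocks_neg, Matrix.fromBlocks_add,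
    Norm.det_blk, Norm.det_blk]
  simp only [← sub_eq_add_neg]
  exact Norm.four _ _ _ _

end Cfsg.Lib.KKL
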