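import Cfsg.Agent.KKL.Base
import Cfsg.Agent.KKL.Blk

/-! Tower KKL: an invariant idempotent matrix has a stable set of columns as a basis. -/

set_option autoImplicit false

open MulAction

namespace Cfsg.Lib.KKL

theorem Peel.alg {R : Type*} [Ring R] {E T Q : R} (hE : E * E = E) (h1 : Q * T = T)
    (h2 : T * E * Q = Q) :
    (E - E * T * E) * (E - E * T * E) = E - E * T * E ∧ (E - E * T * E) * Q = 0 ∧
      (E - E * T * E) * E = E - E * T * E := by
  have h3 : T * E * T = T := by
    calc T * E * T = T * E * (Q * T) := by rw [h1]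
      _ = T := by rw [← mul_assoc, h2, h1]
  have h4 : (E - E * T * E) * E = E - E * T * E := by
    rw [sub_mul, mul_assoc (E * T), hE]
  refine ⟨?_, ?_, h4⟩
  · calc (E - E * T * E) * (E - E * T * E) =
          E * E - E * E * T * E - E * T * (E * E) + E * T * (E * E) * T * E := by noncomm_ring
      _ = E - E * T * E - E * T * E + E * (T * E * T) * E := by rw [hE]; noncomm_ring
      _ = E - E * T * E := by rw [h3, sub_add_cancel]
  · calc (E - E * T * E) * Q = E * Q - E * (T * E * Q) := by noncomm_ring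
      _ = 0 := by rw [h2, sub_self]

theorem Peel.step {R : Type*} [Ring R] {E T F S Q C : R} (hE : E * E = E) (h1 : Q * T = T)
    (h2 : T * E * Q = Q) (hF : F = E - E * T * E) (hc : S * Q = Q * S) (h3 : S * C = C)
    (h4 : F * C = F) (h5 : C * F * S = S) :
    S * Q = 0 ∧ ∃ K : R, (S + Q) * K = K ∧ E * K = E ∧ K * E * (S + Q) = S + Q := by
  obtain ⟨a1, a2, a3⟩ := Peel.alg hE h1 h2
  rw [← hF] at a1 a2 a3
  have b1 : S * Q = 0 := by
    calc S * Q = C * F * S * Q := by rw [h5]
      _ = C * (F * Q) * S := by rw [mul_assoc _ S, hc]; simp only [mul_assoc]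
      _ = 0 := by rw [a2, mul_zero, zero_mul]
  have b2 : (S + Q) * C = C := by
    rw [add_mul, h3, ← h3, ← mul_assoc, ← hc, b1, zero_mul, add_zero]
  have b3 : (S + Q) * T = T := by
    rw [add_mul, h1, ← h1, ← mul_assoc, b1, zero_mul, zero_add]
  refine ⟨b1, C * F + T * E * (1 - C * F), ?_, ?_, ?_⟩
  · rw [mul_add, ← mul_assoc, b2, ← mul_assoc, ← mul_assoc, b3]
  · calc E * (C * F + T * E * (1 - C * F)) = (E - E * T * E) * C * F + E * T * E := by noncomm_ring
      _ = E := by rw [← hF, h4, a1, hF, sub_add_cancel]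
  · calc (C * F + T * E * (1 - C * F)) * E * (S + Q) =
          C * (F * E) * (S + Q) + T * (E * E) * (S + Q) - T * E * (C * (F * E) * (S + Q)) := by
            noncomm_ring
      _ = S + Q := by
            rw [a3, hE, mul_add (C * F), h5, mul_assoc C F Q, a2, mul_zero, add_zero,
              mul_add (T * E), h2]
            abel

section Perm
variable {P Ω : Type*} [CommGroup P] [Finite P] [MulAction P Ω] [Fintype Ω] [DecidableEq Ω]

omit [Finite P] [DecidableEq Ω] in
theorem Peel.inv_mul {O : Type*} [CommRing O] {A B : Matrix Ω Ω O}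
    (hA : ∀ (p : P) (a b : Ω), A (p • a) (p • b) = A a b)
    (hB : ∀ (p : P) (a b : Ω), B (p • a) (p • b) = B a b) (p : P) (a b : Ω) :
    (A * B) (p • a) (p • b) = (A * B) a b := by
  rw [Matrix.mul_apply, Matrix.mul_apply, ← Equiv.sum_comp (MulAction.toPerm p)]
  exact Finset.sum_congr rfl fun x _ => by rw [MulAction.toPerm_apply, hA, hB]

theorem Peel.left {O : Type*} [CommRing O] (X : Finset Ω) (C : Matrix Ω Ω O) :
    Matrix.diagonal (fun x => if x ∈ X then (1 : O) else 0) * C = C ↔
      ∀ x ∉ X, ∀ y, C x y = 0 := by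
  refine ⟨fun h x hx y => ?_, fun h => Matrix.ext fun x y => ?_⟩
  · rw [← h, Matrix.diagonal_mul, if_neg hx, zero_mul]
  · rw [Matrix.diagonal_mul]
    by_cases hx : x ∈ X
    · rw [if_pos hx, one_mul]
    · rw [h x hx, mul_zero]

theorem Peel.right {O : Type*} [CommRing O] (X : Finset Ω) (A : Matrix Ω Ω O) :
    A * Matrix.diagonal (fun x => if x ∈ X then (1 : O) else 0) =
      Matrix.diagonal (fun x => if x ∈ X then (1 : O) else 0) ↔
      ∀ x, ∀ y ∈ X, A x y = if x = y then 1 else 0 := by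
  refine ⟨fun h x y hy => ?_, fun h => Matrix.ext fun x y => ?_⟩
  · have h1 := congrFun (congrFun h x) y
    rw [Matrix.mul_diagonal, if_pos hy, mul_one, Matrix.diagonal_apply] at h1
    rw [h1]
    by_cases e : x = y
    · rw [if_pos e, if_pos e, if_pos (e ▸ hy)]
    · rw [if_neg e, if_neg e]
  · rw [Matrix.mul_diagonal, Matrix.diagonal_apply]
    by_cases hy : y ∈ X
    · rw [if_pos hy, mul_one, h x y hy]
      by_cases e : x = y
      · rw [if_pos e, if_pos e, if_pos (e ▸ hy)]
      · rw [if_neg e, if_neg e]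
    · rw [if_neg hy, mul_zero]
      by_cases e : x = y
      · rw [if_pos e, if_neg (e ▸ hy)]
      · rw [if_neg e]

theorem Peel.zero {O : Type*} [CommRing O] [IsLocalRing O] {E : Matrix Ω Ω O} (hE : E * E = E)
    (h : E.map (IsLocalRing.residue O) = 0) : E = 0 := by
  have h1 : IsUnit (1 - E).det := by
    rw [← IsLocalRing.residue_ne_zero_iff_isUnit, RingHom.map_det, map_sub, map_one,
      RingHom.mapMatrix_apply, h, sub_zero, Matrix.det_one]
    exact one_ne_zero
  have h2 : E * (1 - E) = 0 := by rw [mul_sub, mul_one, hE, sub_self]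
  exact ((Matrix.isUnit_iff_isUnit_det _).2 h1).mul_left_eq_zero.1 h2

open Classical in
theorem Peel.sq {O : Type*} [CommRing O] [IsLocalRing O] (h2 : ¬ IsUnit (2 : O))
    (hP : ∀ p : P, p * p = 1) (n : ℕ) (E : Matrix Ω Ω O) (hE : E * E = E)
    (hi : ∀ (p : P) (a b : Ω), E (p • a) (p • b) = E a b)
    (hn : (Finset.univ.filter fun y => ¬ ∀ x, E x y = 0).card = n) :
    ∃ (X : Finset Ω) (C : Matrix Ω Ω O), (∀ p : P, ∀ x ∈ X, p • x ∈ X) ∧
      Matrix.diagonal (fun x => if x ∈ X then (1 : O) else 0) * C = C ∧ E * C = E ∧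
      C * E * Matrix.diagonal (fun x => if x ∈ X then (1 : O) else 0) =
        Matrix.diagonal (fun x => if x ∈ X then (1 : O) else 0) := by
  induction n using Nat.strong_induction_on generalizing E with | _ n ih => ?_
  by_cases h0 : E.map (IsLocalRing.residue O) = 0
  · refine ⟨∅, 0, fun p x hx => absurd hx (Finset.notMem_empty x), mul_zero _, ?_, ?_⟩
    · rw [Peel.zero hE h0, mul_zero]
    · exact (Peel.right _ _).2 fun x y hy => absurd hy (Finset.notMem_empty y)
  have k2 : (2 : IsLocalRing.ResidueField O) = 0 := by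
    have := mt (IsLocalRing.residue_ne_zero_iff_isUnit (2 : O)).1 h2
    rwa [not_not, map_ofNat] at this
  obtain ⟨a, b, Y, hY, hs, hu⟩ := base k2 hP (E.map (IsLocalRing.residue O))
    (by rw [← Matrix.map_mul, hE]) (fun p a b => by rw [Matrix.map_apply, Matrix.map_apply, hi]) h0
  obtain ⟨T, t1, t2, t3⟩ := blk h2 hP E hi hY hs (by
    rw [← IsLocalRing.residue_ne_zero_iff_isUnit, map_sum]
    exact hu)
  have hb : b ∈ Y := (hY b).2 (mem_orbit_self b)
  have q1 := (Peel.left Y T).2 t2
  have q2 := (Peel.right Y (T * E)).2 t3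
  obtain ⟨a1, a2, -⟩ := Peel.alg hE q1 q2
  have c1 : ∀ y, (∀ x, E x y = 0) → ∀ (A : Matrix Ω Ω O) (x : Ω), (A * E) x y = 0 :=
    fun y hy A x => by
      rw [Matrix.mul_apply]
      exact Finset.sum_eq_zero fun z _ => by rw [hy, mul_zero]
  obtain ⟨X, C, x1, x2, x3, x4⟩ := ih _ (by
    rw [← hn]
    refine Finset.card_lt_card ⟨fun y hy => ?_, fun h => ?_⟩
    · refine Finset.mem_filter.2 ⟨Finset.mem_univ _, fun h => (Finset.mem_filter.1 hy).2 fun x => ?_⟩
      rw [Matrix.sub_apply, h, c1 y h, sub_zero]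
    · refine (Finset.mem_filter.1 (h (Finset.mem_filter.2 ⟨Finset.mem_univ b, fun h' => ?_⟩))).2
        fun x => ?_
      · have := t3 b b hb
        rw [c1 b h', if_pos rfl] at this
        exact zero_ne_one this
      · have := congrFun (congrFun a2 x) b
        rwa [Matrix.mul_diagonal, if_pos hb, mul_one] at this) (E - E * T * E) a1
    (fun p a b => by
      rw [Matrix.sub_apply, Matrix.sub_apply, hi, Peel.inv_mul (Peel.inv_mul hi t1) hi]) rfl
  obtain ⟨d, K, k1, k3, k4⟩ := Peel.step hE q1 q2 rfl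
    (by rw [Matrix.diagonal_mul_diagonal, Matrix.diagonal_mul_diagonal]; simp only [mul_comm])
    x2 x3 x4
  have e : Matrix.diagonal (fun x => if x ∈ X ∪ Y then (1 : O) else 0) =
      Matrix.diagonal (fun x => if x ∈ X then (1 : O) else 0) +
        Matrix.diagonal (fun x => if x ∈ Y then (1 : O) else 0) := by
    rw [Matrix.diagonal_add]
    refine congrArg Matrix.diagonal (funext fun x => ?_)
    have h := congrFun (congrFun d x) x
    rw [Matrix.diagonal_mul_diagonal, Matrix.diagonal_apply_eq, Matrix.zero_apply] at h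
    by_cases hx : x ∈ X <;> by_cases hy : x ∈ Y <;> simp [hx, hy] at h ⊢
  refine ⟨X ∪ Y, K, fun p x hx => ?_, by rw [e, k1], k3, by rw [e, k4]⟩
  rcases Finset.mem_union.1 hx with hx | hx
  · exact Finset.mem_union_left _ (x1 p x hx)
  · obtain ⟨g, rfl⟩ := (hY x).1 hx
    exact Finset.mem_union_right _ ((hY _).2 ⟨p * g, mul_smul p g b⟩)

theorem peel {O : Type*} [CommRing O] [IsLocalRing O] (h2 : ¬ IsUnit (2 : O))
    (hP : ∀ p : P, p * p = 1) (E : Matrix Ω Ω O) (hE : E * E = E)
    (hi : ∀ (p : P) (a b : Ω), E (p • a) (p • b) = E a b) :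
    ∃ (X : Finset Ω) (C : Matrix X Ω O), (∀ p : P, ∀ x ∈ X, p • x ∈ X) ∧
      E.submatrix id ((↑) : X → Ω) * C = E ∧ C * E.submatrix id ((↑) : X → Ω) = 1 := by
  obtain ⟨X, C, x1, x2, x3, x4⟩ := Peel.sq h2 hP _ E hE hi rfl
  rw [Peel.left] at x2
  rw [Peel.right] at x4
  refine ⟨X, C.submatrix ((↑) : X → Ω) id, x1, Matrix.ext fun i j => ?_, Matrix.ext fun i j => ?_⟩
  · rw [← congrFun (congrFun x3 i) j, Matrix.mul_apply, Matrix.mul_apply]
    simp only [Matrix.submatrix_apply, id]
    rw [Finset.sum_coe_sort X fun x => E i x * C x j]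
    exact Finset.sum_subset (Finset.subset_univ X) fun x _ hx => by rw [x2 x hx, mul_zero]
  · have h := x4 i j j.2
    rw [Matrix.mul_apply] at h
    rw [Matrix.mul_apply, Matrix.one_apply]
    simp only [Matrix.submatrix_apply, id]
    rw [h]
    simp only [Subtype.ext_iff]

end Perm

end Cfsg.Lib.KKL
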