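import Cfsg.Agent.Block.BDAb

/-!
Reduction of blocks with defect group `C_(2^n) × C_2^3` to the elementary abelian case of order `8`.
-/

set_option autoImplicit false

open Cfsg Cfsg.Lib.Char Cfsg.Lib.Block Cfsg.Lib.Block.Pair Cfsg.Lib.Block.AG Subgroup

namespace Cfsg.Lib.KKL

universe u

section Bd

variable {M : Ideal AlgInt} {P S : Type u} [Group P] [Group S]

theorem nf_mul (b : BD 2 M P) (hc : ∀ x y : P, x * y = y * x) (v : P) :
    b.nf v * Nat.card (Sb b.aut v) = Nat.card b.aut := by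
  have := b.finite
  have h1 := (MulAction.stabilizer b.aut v).index_mul_card
  rw [MulAction.index_stabilizer] at h1
  have h2 : MulAction.stabilizer b.aut v = (Sb b.aut v).subgroupOf b.aut := by
    ext a
    rw [mem_subgroupOf, mem_Sb, MulAction.mem_stabilizer_iff]
    exact ⟨fun h => ⟨a.2, h⟩, fun h => h.2⟩
  rw [h2, Nat.card_congr (subgroupOfEquivOfLe inf_le_left).toEquiv] at h1
  rw [← h1]
  congr 1
  rw [← Nat.card_coe_set_eq]
  refine Nat.card_congr (Equiv.subtypeEquivRight fun w => ?_)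
  rw [BD.ef_iff hc]
  exact ⟨fun ⟨a, ha, h⟩ => ⟨⟨a, ha⟩, h⟩, fun ⟨a, h⟩ => ⟨a, a.2, h⟩⟩

theorem card_aut_dvd (c : BD 2 M S) (hc : ∀ x y : S, x * y = y * x) (h8 : Nat.card S = 8) :
    Nat.card c.aut ∣ 21 := by
  have := c.finite
  exact (card_dvd_prod c.isPGroup (m := 3) ((index_dvd_card _).trans (by rw [h8]; decide))
    (c.not_dvd_card_aut hc)).trans (by decide)

theorem not_seven [Finite S] (h8 : Nat.card S = 8) (E : Subgroup (MulAut S)) {s : S} (hs : s ≠ 1) :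
    ¬ 7 ∣ Nat.card (Sb E s) := fun h => by
  have p7 : Nat.Prime 7 := by decide
  obtain ⟨a, ha, h1⟩ := exists_prime_mem _ p7 h
  have h2 := card_Fx_modEq (V := ⊤) p7 h1 fun _ _ => trivial
  have h3 : Nat.card (Fx a ⊓ ⊤ : Subgroup S) < Nat.card (⊤ : Subgroup S) := card_lt fun h0 =>
    ne_one_of_orderOf p7 h1 (MulEquiv.ext fun x => h0 (mem_top x))
  have h4 : 1 < Nat.card (Fx a ⊓ ⊤ : Subgroup S) := one_lt_card (x := s) ⟨ha.2, trivial⟩ hs
  rw [card_top, h8] at h2 h3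
  rw [Nat.ModEq] at h2
  omega

theorem dvd_21 {d : ℕ} (h : d ∣ 21) : d = 1 ∨ d = 3 ∨ d = 7 ∨ d = 21 := by
  have := Nat.le_of_dvd (by decide) h
  interval_cases d <;> simp_all

theorem nf_le (b : BD 2 M P) (v : P) : b.nf v ≤ Nat.card P :=
  have := b.finite
  Nat.card_le_card_of_injective _ Subtype.val_injective

theorem nf_one (b : BD 2 M P) : b.nf 1 = 1 :=
  Nat.card_eq_one_iff_unique.2 ⟨⟨fun x y => Subtype.ext (x.2.eq_one.trans y.2.eq_one.symm)⟩,
    ⟨⟨1, b.ef_refl 1⟩⟩⟩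

theorem fix_of_nf (b : BD 2 M P) {v : P} (h : b.nf v = 1) (a : MulAut P) (ha : a ∈ b.aut) :
    a v = v :=
  congrArg Subtype.val ((Nat.card_eq_one_iff_unique.1 h).1.elim
    (⟨a v, BD.ef_aut ha v⟩ : {w // b.ef v w}) ⟨v, b.ef_refl v⟩)

/-- The stabilizer of a nontrivial element of a group of order `8` has order at most `3`. -/
theorem card_Sb_le (c : BD 2 M S) (hc : ∀ x y : S, x * y = y * x) (h8 : Nat.card S = 8) {s : S}
    (hs : s ≠ 1) : Nat.card (Sb c.aut s) ≤ 3 := by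
  have := c.finite
  have h1 := not_seven h8 c.aut hs
  rcases dvd_21 ((card_Sb_dvd c.aut s).trans (card_aut_dvd c hc h8)) with h | h | h | h <;> omega

/-- If `7` divides the inertial index then `k = l + e / 7`. -/
theorem k_eq_of_seven (c : BD 2 M S) (hc : ∀ x y : S, x * y = y * x) (h8 : Nat.card S = 8) {m : ℕ}
    (h7 : Nat.card c.aut = 7 * m) : c.k = c.l + m ∧ ∀ s : S, s ≠ 1 → c.rk s = m ∧ c.nf s = 7 := by
  classical
  have := c.finite
  have := Fintype.ofFinite S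
  have h0 : ∀ s : S, s ≠ 1 → c.rk s = m ∧ c.nf s = 7 := fun s hs => by
    have h1 := nf_mul c hc s
    have h2 := nf_le c s
    have h3 := not_seven h8 c.aut hs
    have h4 := BD.rk_eq_of_le_three hc (card_Sb_le c hc h8 hs)
    have h5 := card_aut_dvd c hc h8
    rw [h4]
    rw [h8] at h2
    rw [h7] at h1 h5
    have h6 : 7 ∣ c.nf s := ((Nat.Prime.dvd_mul (by decide)).1 (h1 ▸ dvd_mul_right 7 m)).resolve_right h3
    have h9 := BD.nf_pos (b := c) s
    have h10 : c.nf s = 7 := by omega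
    rw [h10] at h1
    omega
  refine ⟨?_, h0⟩
  have h1 := BD.k_eq_sum (b := c)
  rw [← Finset.add_sum_erase _ _ (Finset.mem_univ 1), Finset.sum_congr rfl
    (g := fun _ => (m : ℚ) / 7) fun s hs => by
      obtain ⟨h2, h3⟩ := h0 s (Finset.ne_of_mem_erase hs)
      rw [BD.wt, h2, h3]; norm_num,
    Finset.sum_const, Finset.card_erase_of_mem (Finset.mem_univ _), Finset.card_univ,
    ← Nat.card_eq_fintype_card, h8, BD.wt, nf_one, BD.rk_one] at h1
  have h2 : (c.k : ℚ) = (c.l + m : ℕ) := by rw [h1]; push_cast; simp; ring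
  exact_mod_cast h2

theorem l_cases (c : BD 2 M S) (hc : ∀ x y : S, x * y = y * x) (h8 : Nat.card S = 8)
    (hk : c.k = 8) : c.l = 1 ∨ c.l = 3 ∨ c.l = 5 ∨ c.l = 7 := by
  rcases dvd_21 (card_aut_dvd c hc h8) with h | h | h | h
  · have := BD.l_eq_of_le_three hc (b := c) (by omega); omega
  · have := BD.l_eq_of_le_three hc (b := c) (by omega); omega
  · have := (k_eq_of_seven c hc h8 (m := 1) h).1; omega
  · have := (k_eq_of_seven c hc h8 (m := 3) h).1; omega

theorem nf_quo {b : BD 2 M P} (hc : ∀ x y : P, x * y = y * x) {u : P} {π : P →* S} {c : BD 2 M S}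
    (h : BD.CQ b u π c) (hu : ∀ a ∈ b.aut, a u = u) (v : P) : b.nf v = c.nf (π v) := by
  have := b.finite
  have hc' := comm_of_surj h.surj hc
  refine Nat.card_congr (Equiv.ofBijective (fun w => ⟨π w.1, ?_⟩) ⟨fun w w' e => ?_, fun s => ?_⟩)
  · obtain ⟨a, ha, h1⟩ := (BD.ef_iff hc).1 w.2
    obtain ⟨a', ha', h2⟩ := h.exists_aut' ha (hu a ha)
    rw [← h1, ← h2]
    exact BD.ef_aut ha' _
  · obtain ⟨a, ha, h1⟩ := (BD.ef_iff hc).1 (w.2.symm.trans w'.2)
    have e' : π w.1 = π w'.1 := congrArg Subtype.val e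
    refine Subtype.ext (h1.symm.trans ?_).symm
    refine (pp Nat.prime_two (b.not_dvd_card_aut hc) ha).fix_of_mem b.isPGroup trivial
      (fix_of_mem (hu a ha) (h.ker ?_))
    rw [MonoidHom.mem_ker, map_mul, map_inv, inv_mul_eq_one, h1, e']
  · obtain ⟨a, ha, h1⟩ := (BD.ef_iff hc').1 s.2
    obtain ⟨a', ha', -, h2⟩ := h.exists_aut ha
    exact ⟨⟨a' v, BD.ef_aut ha' v⟩, Subtype.ext ((h2 v).symm.trans h1)⟩

theorem height_zero (b : BD 2 M P) (hc : ∀ x y : P, x * y = y * x) {v : P} (hv : b.rk v ≤ 3)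
    (hk : b.k = Nat.card P) (χ : IrrCharacter b.G) (hχ : χ ∈ b.B) :
    blockHeight 2 b.B (χ : b.G → ℂ) = 0 := by
  have h3 := mem_center_iff.2 fun g => hc g v
  have hd := blockDefect_subBlk_of_le b.hM b.hB b.max (b.mem v) (b.le_cent h3)
  have h1 := weighted_le_of_major_rank_le_three b.hM rfl (isMax_pElt b.max (b.mem v))
    (isInducedBlock_subBlk b.hM b.hB b.max (b.mem v)) hd hv
  by_contra h0
  have h2 : ∀ n : ℕ, n ≠ 0 → (3 : ℤ) < 2 * 2 ^ n := fun n hn => by
    obtain ⟨n, rfl⟩ := Nat.exists_eq_succ_of_ne_zero hn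
    have : (0 : ℤ) < 2 ^ n := by positivity
    rw [pow_succ]
    omega
  have h4 : ∑ χ ∈ irrFin b.B, (3 : ℤ) < _ := lt_of_lt_of_le (Finset.sum_lt_sum (fun ψ _ => ?_)
    ⟨χ, mem_irrFin.2 hχ, ?_⟩) h1
  · rw [Finset.sum_const, card_irrFin, nsmul_eq_mul] at h4
    have h5 : (Nat.card b.B : ℤ) = 2 ^ blockDefect 2 b.B := by
      exact_mod_cast hk.trans b.card_eq
    omega
  · split_ifs with h5
    exacts [le_rfl, (h2 _ h5).le]
  · rw [if_neg h0]
    exact h2 _ h0

theorem red_bd (kkl : ∀ {P : Type u} [Group P] (c : BD 2 M P), Nat.card P = 8 →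
      (∀ x : P, x * x = 1) → c.k = 8)
    (b : BD 2 M P) (hc : ∀ x y : P, x * y = y * x) {u : P} (hu : ∀ a ∈ b.aut, a u = u)
    (hi : (zpowers u).index = 8) (hs : ∀ z : P, z * z ∈ zpowers u) :
    b.k = Nat.card P ∧ (∀ χ ∈ b.B, blockHeight 2 b.B (χ : b.G → ℂ) = 0) ∧
      (b.l = 1 ∨ b.l = 3 ∨ b.l = 5 ∨ b.l = 7) := by
  classical
  have := b.finite
  have h3 := mem_center_iff.2 fun g => hc g u
  have := normal_zpowers h3
  obtain ⟨c, h⟩ := b.exists_cq' h3
  set π := QuotientGroup.mk' (zpowers u) with hπ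
  have hc' := comm_of_surj h.surj hc
  have h8 : Nat.card (P ⧸ zpowers u) = 8 := hi
  have hk := kkl c h8 fun x => by
    obtain ⟨x, rfl⟩ := h.surj x
    rw [← map_mul]
    exact (QuotientGroup.eq_one_iff _).2 (hs x)
  have hl : c.l = b.l := h.l_eq.trans (BD.watanabe hc hu)
  have he : Nat.card c.aut = Nat.card b.aut := by
    rw [h.card_aut (b.not_dvd_card_aut hc), show Sb b.aut u = b.aut from
      inf_eq_left.2 fun a ha => hu a ha]
  have hS : ∀ v, Nat.card (Sb b.aut v) = Nat.card (Sb c.aut (π v)) := fun v => by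
    have h1 := nf_mul b hc v
    rw [← he, ← nf_mul c hc' (π v), nf_quo hc h hu] at h1
    exact Nat.eq_of_mul_eq_mul_left (BD.nf_pos _) h1
  have hr : ∀ v, b.rk v = c.rk (π v) := fun v => by
    by_cases h1 : π v = 1
    · rw [h1, BD.rk_one, hl]
      refine BD.watanabe hc (fix_of_nf b ?_)
      rw [nf_quo hc h hu, h1, nf_one]
    · have h2 := card_Sb_le c hc' h8 h1
      rw [BD.rk_eq_of_le_three hc' h2, BD.rk_eq_of_le_three hc ((hS v).le.trans h2), hS]
  have hb : b.k = Nat.card P := by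
    have := Fintype.ofFinite P
    have := Fintype.ofFinite (P ⧸ zpowers u)
    have h1 := BD.k_eq_sum (b := b)
    have h2 := BD.k_eq_sum (b := c)
    rw [Finset.sum_congr rfl (g := fun v => c.wt (π v)) fun v _ => by
      rw [BD.wt, BD.wt, hr, nf_quo hc h hu],
      ← Finset.sum_fiberwise (s := Finset.univ) (g := π), Finset.sum_congr rfl
        (g := fun s => (Nat.card (zpowers u) : ℚ) * c.wt s) fun s _ => ?_,
      ← Finset.mul_sum, ← h2, hk] at h1
    · have h4 := (zpowers u).index_mul_card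
      rw [hi] at h4
      have h5 : (b.k : ℚ) = (Nat.card P : ℕ) := by rw [h1, ← h4]; push_cast; ring
      exact_mod_cast h5
    · rw [Finset.sum_congr rfl (g := fun _ => c.wt s) fun v hv => by
        rw [(Finset.mem_filter.1 hv).2], Finset.sum_const, nsmul_eq_mul]
      congr 2
      obtain ⟨y, rfl⟩ := h.surj s
      rw [← Fintype.card_subtype, ← Nat.card_eq_fintype_card]
      refine Nat.card_congr ((Equiv.mulLeft y⁻¹).subtypeEquiv fun x => ?_)
      rw [Equiv.coe_mulLeft, eq_comm]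
      exact QuotientGroup.eq
  have : Nontrivial (P ⧸ zpowers u) := Finite.one_lt_card_iff_nontrivial.1 (by omega)
  obtain ⟨s, hs1⟩ := exists_ne (1 : P ⧸ zpowers u)
  obtain ⟨v, rfl⟩ := h.surj s
  have h4 := card_Sb_le c hc' h8 hs1
  refine ⟨hb, height_zero b hc (v := v) ?_ hb, hl ▸ l_cases c hc' h8 hk⟩
  rw [hr, BD.rk_eq_of_le_three hc' h4]
  exact h4

end Bd

theorem exists_fix {P : Type*} [CommGroup P] [Finite P] (E : Subgroup (MulAut P))
    (hE : ¬ 2 ∣ Nat.card E) {x : P} {m : ℕ} (hx : orderOf x = 2 ^ (m + 2))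
    (hs : ∀ z : P, z * z ∈ zpowers (x * x)) :
    ∃ u : P, (∀ a ∈ E, a u = u) ∧ orderOf u = 2 ^ (m + 2) ∧ ∀ z : P, z * z ∈ zpowers u := by
  classical
  have := Fintype.ofFinite E
  set t := x ^ 2 ^ (m + 1) with ht
  have t1 : t ≠ 1 := fun h => by
    have h2 := orderOf_dvd_of_pow_eq_one h
    rw [hx, Nat.pow_dvd_pow_iff_le_right one_lt_two] at h2
    omega
  have t2 : t * t = 1 := by rw [ht, ← sq, ← pow_mul, ← pow_succ, ← hx, pow_orderOf_eq_one]
  have h0 : ∀ z : P, z ^ 2 ^ (m + 1) = 1 ∨ z ^ 2 ^ (m + 1) = t := fun z => by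
    obtain ⟨j, hj⟩ := hs z
    have h1 : z ^ 2 ^ (m + 1) = t ^ j := by
      rw [pow_succ', pow_mul, sq, ← hj, ht, pow_succ', pow_mul, sq, ← zpow_natCast, ← zpow_natCast,
        ← zpow_mul, ← zpow_mul, mul_comm j]
    have h2 : t ^ (2 : ℤ) = 1 := by rw [zpow_two, t2]
    rw [h1]
    obtain ⟨i, rfl | rfl⟩ := Int.even_or_odd' j
    · left; rw [zpow_mul, h2, one_zpow]
    · right; rw [zpow_add, zpow_mul, h2, one_zpow, one_mul, zpow_one]
  have h1 : ∀ a : MulAut P, (a x) ^ 2 ^ (m + 1) = t := fun a => (h0 _).resolve_left fun h =>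
    t1 (a.injective (by rw [ht, map_pow, h, map_one]))
  set u := ∏ a : E, (a : MulAut P) x with hu
  have h2 : u ^ 2 ^ (m + 1) = t := by
    rw [hu, ← Finset.prod_pow, Finset.prod_congr rfl fun (a : E) _ => h1 a, Finset.prod_const,
      Finset.card_univ, ← Nat.card_eq_fintype_card]
    obtain ⟨i, hi⟩ : Odd (Nat.card E) := Nat.not_even_iff_odd.1 (by rwa [even_iff_two_dvd])
    rw [hi, pow_succ, pow_mul, sq, t2, one_pow, one_mul]
  have h3 : orderOf u = 2 ^ (m + 2) := orderOf_eq_prime_pow (p := 2) (h2 ▸ t1)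
    (by rw [pow_succ, pow_mul, h2, sq, t2])
  refine ⟨u, fun a ha => ?_, h3, fun z => ?_⟩
  · rw [hu, map_prod]
    exact Fintype.prod_equiv (Equiv.mulLeft (⟨a, ha⟩ : E)) _ _ fun _ => rfl
  · have h4 : ∀ y : P, orderOf y = 2 ^ (m + 2) → Nat.card (zpowers (y * y)) = 2 ^ (m + 1) :=
      fun y hy => by
        rw [Nat.card_zpowers, ← sq, orderOf_pow' y two_ne_zero, hy, pow_succ,
          Nat.gcd_eq_right (dvd_mul_left 2 _), Nat.mul_div_cancel _ two_pos]
    have h5 : zpowers (u * u) = zpowers (x * x) :=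
      eq_of_le_of_card_ge (zpowers_le.2 (hs u)) (by rw [h4 u h3, h4 x hx])
    exact zpowers_le.2 (mul_mem (mem_zpowers u) (mem_zpowers u)) (h5 ▸ hs z)

theorem red {M : Ideal AlgInt} (kkl : ∀ {P : Type u} [Group P] (c : BD 2 M P), Nat.card P = 8 →
      (∀ x : P, x * x = 1) → c.k = 8)
    {G : Type u} [Group G] [Finite G] (hM : IsPModular 2 M) (B : Set (IrrCharacter G))
    (hB : IsPBlock M B) (D : Subgroup G) (hD : IsDefectGroup 2 M B D) (n : ℕ) (hn : 2 ≤ n)
    (hiso : Nonempty (D ≃* Multiplicative (ZMod (2 ^ n) × ZMod 2 × ZMod 2 × ZMod 2))) :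
    Nat.card B = 2 ^ (n + 3) ∧ (∀ χ ∈ B, blockHeight 2 B (χ : G → ℂ) = 0) ∧
      (blockRank 2 B = 1 ∨ blockRank 2 B = 3 ∨ blockRank 2 B = 5 ∨ blockRank 2 B = 7) := by
  obtain ⟨f⟩ := hiso
  obtain ⟨m, rfl⟩ := Nat.exists_eq_add_of_le' hn
  obtain ⟨e, h⟩ := exists_isMax_eB hM hB hD
  have := Fintype.ofFinite G
  let b : BD 2 M D := ⟨G, B, D.subtype, e, D.subtype_injective, hM, hB, by rwa [D.range_subtype]⟩
  have hc : ∀ x y : D, x * y = y * x := fun x y => f.injective (by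
    rw [map_mul, map_mul, mul_comm])
  have hcard : Nat.card D = 2 ^ (m + 2 + 3) := by
    rw [Nat.card_congr f.toEquiv, Nat.card_congr Multiplicative.toAdd]
    simp only [Nat.card_prod, Nat.card_zmod]
    ring
  let x : D := f.symm (Multiplicative.ofAdd (1, 0, 0, 0))
  have hx : orderOf x = 2 ^ (m + 2) := by
    rw [MulEquiv.orderOf_eq, orderOf_ofAdd_eq_addOrderOf]
    simp [Prod.addOrderOf]
  have hs : ∀ z : D, z * z ∈ zpowers (x * x) := fun z => by
    obtain ⟨z, rfl⟩ := f.symm.surjective z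
    obtain ⟨⟨z1, z2, z3, z4⟩, rfl⟩ := Multiplicative.ofAdd.surjective z
    obtain ⟨j, rfl⟩ := ZMod.intCast_surjective z1
    refine ⟨j, ?_⟩
    beta_reduce
    rw [← map_mul f.symm, ← map_mul f.symm, ← map_zpow, ← ofAdd_add, ← ofAdd_add, ← ofAdd_zsmul]
    congr 2
    simp [CharTwo.add_self_eq_zero]
  obtain ⟨u, h1, h2, h3⟩ := @exists_fix D { (inferInstance : Group D) with mul_comm := hc } _
    b.aut (b.not_dvd_card_aut hc) x m hx hs
  have h4 := (zpowers u).index_mul_card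
  rw [Nat.card_zpowers, hcard] at h4
  erw [h2] at h4
  have h5 := red_bd kkl b hc h1 (Nat.eq_of_mul_eq_mul_right (by positivity : 0 < 2 ^ (m + 2))
    (h4.trans (by ring))) h3
  exact ⟨h5.1.trans hcard, h5.2.1, h5.2.2⟩

end Cfsg.Lib.KKL
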