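import Mathlib
import Cfsg.Agent.KKL.Even

/-! Tower KKL: an even permutation intertwining two commuting free actions. -/

set_option autoImplicit false

open MulAction

namespace Cfsg.Lib.KKL

namespace Theta

theorem one {P Ω : Type*} [CommGroup P] [Finite P] [MulAction P Ω] [Fintype Ω] [DecidableEq Ω]
    {D : Type*} [CommGroup D] (h8 : Nat.card D = 8) (hP : ∀ p : P, p * p = 1) (i j : D →* P)
    (hL : ∀ u (x : Ω), i u • x = x → u = 1) (hR : ∀ u (x : Ω), j u • x = x → u = 1) (a : Ω) :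
    ∃ θ : Equiv.Perm Ω, Equiv.Perm.sign θ = 1 ∧ (∀ x ∉ orbit P a, θ x = x) ∧
      (∀ x ∈ orbit P a, θ x ∈ orbit P a) ∧ ∀ u, ∀ x ∈ orbit P a, θ (i u • x) = j u • θ x := by
  classical
  have := Fintype.ofFinite (P ⧸ stabilizer P a)
  have hW : ∀ w : P ⧸ stabilizer P a, w * w = 1 := fun w => by
    obtain ⟨p, rfl⟩ := QuotientGroup.mk_surjective w
    rw [← QuotientGroup.mk_mul, hP, QuotientGroup.mk_one]
  have inj : ∀ k : D →* P, (∀ u (x : Ω), k u • x = x → u = 1) →
      Function.Injective ((QuotientGroup.mk' (stabilizer P a)).comp k) := fun k hk =>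
    (injective_iff_map_eq_one _).2 fun u hu => hk u a ((QuotientGroup.eq_one_iff (k u)).1 hu)
  obtain ⟨α, hα⟩ := ext_aut hW _ _ (inj i hL) (inj j hR)
  have c8 : 8 ≤ Nat.card (P ⧸ stabilizer P a) :=
    h8 ▸ Nat.card_le_card_of_injective _ (inj i hL)
  let e : P ⧸ stabilizer P a ≃ {x // x ∈ orbit P a} := (orbitEquivQuotientStabilizer P a).symm
  have he : ∀ (p : P) (w : P ⧸ stabilizer P a), (e ((p : P ⧸ stabilizer P a) * w) : Ω) = p • (e w : Ω) :=
    fun p w => by
      obtain ⟨q, rfl⟩ := QuotientGroup.mk_surjective w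
      rw [← QuotientGroup.mk_mul]
      simp only [e, orbitEquivQuotientStabilizer_symm_apply, mul_smul]
  refine ⟨Equiv.Perm.extendDomain α.toEquiv e, ?_, fun x hx => ?_, fun x hx => ?_,
    fun u x hx => ?_⟩
  · rw [Equiv.Perm.sign_extendDomain]; exact even hW c8 α
  · exact Equiv.Perm.extendDomain_apply_not_subtype _ _ hx
  · rw [Equiv.Perm.extendDomain_apply_subtype _ _ hx]; exact Subtype.prop _
  · obtain ⟨w, hw⟩ := e.surjective ⟨x, hx⟩
    obtain rfl : (e w : Ω) = x := congrArg Subtype.val hw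
    rw [← he, Equiv.Perm.extendDomain_apply_image, Equiv.Perm.extendDomain_apply_image, ← he]
    congr 2
    show α (_ * w) = _ * α w
    rw [map_mul]
    exact congrArg (· * α w) (hα u)

theorem all {P Ω : Type*} [CommGroup P] [Finite P] [MulAction P Ω] [Fintype Ω] [DecidableEq Ω]
    {D : Type*} [CommGroup D] (h8 : Nat.card D = 8) (hP : ∀ p : P, p * p = 1) (i j : D →* P)
    (hL : ∀ u (x : Ω), i u • x = x → u = 1) (hR : ∀ u (x : Ω), j u • x = x → u = 1)
    (S : Finset Ω) (hS : ∀ p : P, ∀ x ∈ S, p • x ∈ S) :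
    ∃ θ : Equiv.Perm Ω, Equiv.Perm.sign θ = 1 ∧ (∀ x ∉ S, θ x = x) ∧
      ∀ u, ∀ x ∈ S, θ (i u • x) = j u • θ x := by
  classical
  induction S using Finset.strongInduction with
  | H S ih =>
    rcases S.eq_empty_or_nonempty with rfl | ⟨a, ha⟩
    · exact ⟨1, map_one _, fun _ _ => rfl, fun _ _ h => absurd h (Finset.notMem_empty _)⟩
    have inv : ∀ (p : P) (x : Ω), p • x ∈ orbit P a ↔ x ∈ orbit P a := fun p x =>
      ⟨fun h => by simpa using mem_orbit_of_mem_orbit p⁻¹ h, mem_orbit_of_mem_orbit p⟩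
    obtain ⟨θ, s1, f1, m1, e1⟩ := one h8 hP i j hL hR a
    obtain ⟨η, s2, f2, e2⟩ := ih (S.filter (· ∉ orbit P a))
      (Finset.filter_ssubset.2 ⟨a, ha, not_not.2 (mem_orbit_self a)⟩) fun p x hx => by
        rw [Finset.mem_filter] at hx ⊢
        exact ⟨hS p x hx.1, by rw [inv]; exact hx.2⟩
    have fo : ∀ x ∈ orbit P a, η x = x := fun x hx =>
      f2 x fun h => (Finset.mem_filter.1 h).2 hx
    refine ⟨η * θ, by rw [map_mul, s1, s2, mul_one], fun x hx => ?_, fun u x hx => ?_⟩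
    · have : x ∉ orbit P a := by
        rintro ⟨p, rfl⟩
        exact hx (hS p a ha)
      rw [Equiv.Perm.mul_apply, f1 x this, f2 x fun h => hx (Finset.mem_filter.1 h).1]
    · simp only [Equiv.Perm.mul_apply]
      by_cases h : x ∈ orbit P a
      · rw [e1 u x h, fo _ (m1 x h), fo _ ((inv _ _).2 (m1 x h))]
      · rw [f1 x h, f1 _ fun k => h ((inv _ _).1 k), e2 u x (Finset.mem_filter.2 ⟨hx, h⟩)]

end Theta

theorem theta {D Ω : Type*} [CommGroup D] (h8 : Nat.card D = 8) (hD : ∀ u : D, u * u = 1)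
    [Fintype Ω] [DecidableEq Ω] (L R : D →* Equiv.Perm Ω) (hc : ∀ u v, Commute (L u) (R v))
    (hL : ∀ u x, L u x = x → u = 1) (hR : ∀ u x, R u x = x → u = 1) :
    ∃ θ : Equiv.Perm Ω, Equiv.Perm.sign θ = 1 ∧ ∀ u x, θ (L u x) = R u (θ x) := by
  have : Finite D := Nat.finite_of_card_ne_zero (by omega)
  let _ : MulAction (D × D) Ω := MulAction.compHom Ω (L.noncommCoprod R hc)
  have hi : ∀ u (x : Ω), MonoidHom.inl D D u • x = L u x := fun u x => by
    show (L u * R 1) x = _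
    rw [map_one, mul_one]
  have hj : ∀ u (x : Ω), MonoidHom.inr D D u • x = R u x := fun u x => by
    show (L 1 * R u) x = _
    rw [map_one, one_mul]
  obtain ⟨θ, s, -, e⟩ := Theta.all h8 (P := D × D) (fun p => Prod.ext (hD _) (hD _))
    (MonoidHom.inl D D) (MonoidHom.inr D D) (fun u x h => hL u x (hi u x ▸ h))
    (fun u x h => hR u x (hj u x ▸ h)) Finset.univ fun _ _ _ => Finset.mem_univ _
  exact ⟨θ, s, fun u x => by rw [← hi, ← hj]; exact e u x (Finset.mem_univ x)⟩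

end Cfsg.Lib.KKL
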