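import Cfsg.Agent.KKL.Peel
import Cfsg.Agent.KKL.Theta
import Cfsg.Agent.KKL.Norm

/-! # Tower KKL: the structure of the Gram matrix -/

set_option autoImplicit false

namespace Cfsg.Lib.KKL

theorem Struct.aux {O G D : Type*} [CommRing O] [IsLocalRing O] (h2 : ¬ IsUnit (2 : O)) [Group G]
    [Fintype G] [DecidableEq G] [CommGroup D] (ι : D →* G) (hι : Function.Injective ι)
    (h8 : Nat.card D = 8) (hsq : ∀ u : D, u * u = 1)
    (Γ : Matrix G G O) (hs : ∀ g h, Γ g h = Γ h g) (hid : ∀ g h, ∑ k, Γ g k⁻¹ * Γ k h = Γ g h)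
    (hD : ∀ u : D, ∀ g h, Γ (ι u * g) h = Γ g (h * ι u)) :
    ∃ X : Finset G, (X.card : O) = ∑ g, Γ g g⁻¹ ∧
      IsUnit (Matrix.of fun x y : X => Γ x y).det ∧
      ∃ W Z : O, (Matrix.of fun x y : X => Γ x y).det = W ^ 2 + 4 * Z := by
  have : Finite D := Nat.finite_of_card_ne_zero (by omega)
  let _i : MulAction (D × D) G :=
    { smul := fun p g => ι p.1 * g * (ι p.2)⁻¹
      one_smul := fun g => by
        change ι 1 * g * (ι 1)⁻¹ = g
        simp
      mul_smul := fun p q g => by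
        change ι (p.1 * q.1) * g * (ι (p.2 * q.2))⁻¹ = ι p.1 * (ι q.1 * g * (ι q.2)⁻¹) * (ι p.2)⁻¹
        simp only [map_mul, mul_inv_rev, mul_assoc] }
  have hsm : ∀ (p : D × D) (g : G), p • g = ι p.1 * g * (ι p.2)⁻¹ := fun _ _ => rfl
  let E : Matrix G G O := Matrix.of fun k g => Γ k⁻¹ g
  have hE : E * E = E := by
    ext k g
    rw [Matrix.mul_apply]
    change ∑ j, Γ k⁻¹ j * Γ j⁻¹ g = Γ k⁻¹ g
    rw [← hid k⁻¹ g]
    exact Fintype.sum_equiv (Equiv.inv G) _ _ fun j => by simp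
  have hi : ∀ (p : D × D) (a b : G), E (p • a) (p • b) = E a b := fun p a b => by
    change Γ (p • a)⁻¹ (p • b) = Γ a⁻¹ b
    rw [hsm, hsm, mul_inv_rev, inv_inv, hD, inv_mul_cancel_right, hs, hD, mul_inv_rev,
      inv_mul_cancel_right, hs]
  obtain ⟨X, C, hX, hAC, hCA⟩ := peel h2 (P := D × D) (fun p => Prod.ext (hsq p.1) (hsq p.2)) E hE hi
  refine ⟨X, ?_, ?_, ?_⟩
  · have h1 : E.trace = (X.card : O) := by
      rw [← hAC, Matrix.trace_mul_comm, hCA, Matrix.trace_one, Fintype.card_coe]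
    rw [← h1]
    exact Finset.sum_congr rfl fun g _ => hs _ _
  · have h1 : ∀ a g, ∑ x : X, Γ a x * C x g = Γ a g := fun a g => by
      have := congrFun (congrFun hAC a⁻¹) g
      rw [Matrix.mul_apply] at this
      simpa [E] using this
    have h3 : (Matrix.of fun x z : X => ∑ k, C x k * C z k⁻¹) *
        (Matrix.of fun x y : X => Γ x y) = 1 := by
      rw [← hCA]
      ext x y
      rw [Matrix.mul_apply, Matrix.mul_apply]
      change ∑ z : X, (∑ k, C x k * C z k⁻¹) * Γ z y = ∑ k, C x k * Γ k⁻¹ y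
      simp only [Finset.sum_mul]
      rw [Finset.sum_comm]
      refine Finset.sum_congr rfl fun k _ => ?_
      rw [hs k⁻¹, ← h1 y k⁻¹, Finset.mul_sum]
      refine Finset.sum_congr rfl fun z _ => ?_
      rw [hs z]
      ring
    exact Matrix.isUnit_det_of_left_inverse h3
  · let _i : MulAction (D × D) X :=
      { smul := fun p x => ⟨p • x.1, hX p x.1 x.2⟩
        one_smul := fun x => Subtype.ext (one_smul _ x.1)
        mul_smul := fun p q x => Subtype.ext (mul_smul p q x.1) }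
    let T := MulAction.toPermHom (D × D) X
    let L : D →* Equiv.Perm X := T.comp (MonoidHom.inl D D)
    let R : D →* Equiv.Perm X := T.comp (MonoidHom.inr D D)
    have eL : ∀ u x, (L u x).1 = ι u * x.1 := fun u x => by
      change ι u * x.1 * (ι 1)⁻¹ = _
      simp
    have eR : ∀ u x, (R u x).1 = x.1 * (ι u)⁻¹ := fun u x => by
      change ι 1 * x.1 * (ι u)⁻¹ = _
      simp
    have hL : ∀ u x, L u x = x → u = 1 := fun u x h => by
      have := congrArg Subtype.val h
      rw [eL, mul_eq_right] at this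
      exact hι (this.trans (map_one ι).symm)
    have hR : ∀ u x, R u x = x → u = 1 := fun u x h => by
      have := congrArg Subtype.val h
      rw [eR, mul_eq_left, inv_eq_one] at this
      exact hι (this.trans (map_one ι).symm)
    have hc : ∀ u v, Commute (L u) (R v) := fun u v =>
      (Commute.all ((MonoidHom.inl D D) u) ((MonoidHom.inr D D) v)).map T
    obtain ⟨θ, hθ, ht⟩ := theta h8 hsq L R hc hL hR
    obtain ⟨W, Z, h⟩ := nrm h8 hsq L hL ((Matrix.of fun x y : X => Γ x y).submatrix id θ)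
      fun u x y => by
        change Γ (L u x).1 (θ (L u y)).1 = Γ x.1 (θ y).1
        rw [ht, eL, eR, hD, inv_mul_cancel_right]
    rw [Matrix.det_permute', hθ] at h
    exact ⟨W, Z, by simpa using h⟩

theorem struct {O G : Type*} [CommRing O] [IsLocalRing O] (h2 : ¬ IsUnit (2 : O)) [Group G]
    [Fintype G] [DecidableEq G] (D : Subgroup G) (h8 : Nat.card D = 8) (hsq : ∀ u ∈ D, u * u = 1)
    (Γ : Matrix G G O) (hs : ∀ g h, Γ g h = Γ h g) (hid : ∀ g h, ∑ k, Γ g k⁻¹ * Γ k h = Γ g h)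
    (hD : ∀ u ∈ D, ∀ g h, Γ (u * g) h = Γ g (h * u)) :
    ∃ X : Finset G, (X.card : O) = ∑ g, Γ g g⁻¹ ∧
      IsUnit (Matrix.of fun x y : X => Γ x y).det ∧
      ∃ W Z : O, (Matrix.of fun x y : X => Γ x y).det = W ^ 2 + 4 * Z := by
  have hq : ∀ u : D, u * u = 1 := fun u => Subtype.ext (hsq u u.2)
  have hi : ∀ x : D, x⁻¹ = x := fun x => inv_eq_of_mul_eq_one_right (hq x)
  let _i : CommGroup D := { (inferInstance : Group D) with
    mul_comm := fun a b => by rw [← hi (a * b), mul_inv_rev, hi, hi] }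
  exact Struct.aux h2 D.subtype D.subtype_injective h8 hq Γ hs hid fun u => hD u u.2

end Cfsg.Lib.KKL
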