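import Cfsg.Agent.Block.PElemSum
import Cfsg.Agent.Block.Perfect
import Cfsg.Agent.Block.RealBlock
import Cfsg.Agent.Block.DefectNum
import Cfsg.Agent.Char.PermLemma
import Cfsg.Agent.S0924

/-! Projective characters of a 2-block with elementary abelian defect group have even norm. -/

set_option autoImplicit false

open scoped ComplexConjugate
open Cfsg Cfsg.Lib.Char Cfsg.Lib.Block Cfsg.Lib.Block.Ht Cfsg.Lib.Block.Loc Subgroup

namespace Cfsg.Lib.KKL

namespace ThA

variable {G : Type*} [Group G] [Fintype G] {M : Ideal AlgInt}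

/-- convolution -/
noncomputable def cv (a b : G → ℂ) (x : G) : ℂ := ∑ g, a g * b (g⁻¹ * x)

theorem cv_cls {a b : G → ℂ} (ha : IsClassFunction G a) (hb : IsClassFunction G b) :
    IsClassFunction G (cv a b) := fun x k => by
  unfold cv
  rw [← (MulAut.conj k).toEquiv.sum_comp]
  refine Finset.sum_congr rfl fun g _ => ?_
  show a (k * g * k⁻¹) * b ((k * g * k⁻¹)⁻¹ * (k * x * k⁻¹)) = _
  rw [ha g k, ← hb (g⁻¹ * x) k]
  congr 2
  group

theorem om_cv {χ a : G → ℂ} (hχ : IsIrrCharacter G χ) (ha : IsClassFunction G a) (b : G → ℂ) :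
    om χ (cv a b) = om χ a * om χ b := by
  rw [om_eq χ (cv a b), om_eq χ b, ← mul_div_assoc, Finset.mul_sum]
  congr 1
  simp only [cv, Finset.sum_mul]
  rw [Finset.sum_comm]
  have : ∀ g, ∑ x, a g * b (g⁻¹ * x) * χ x = ∑ y, b y * (a g * χ (g * y)) := fun g => by
    rw [← Equiv.sum_comp (Equiv.mulLeft g)]
    refine Finset.sum_congr rfl fun y _ => ?_
    simp only [Equiv.coe_mulLeft, inv_mul_cancel_left]
    ring
  simp only [this]
  rw [Finset.sum_comm]
  refine Finset.sum_congr rfl fun y _ => ?_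
  rw [← Finset.mul_sum, sum_classFun_mul_irr_mul' hχ ha]
  ring

theorem sum_cls [Fintype (ConjClasses G)] {F ψ : G → ℂ} (hF : IsClassFunction G F)
    (hψ : IsClassFunction G ψ) : ∑ g, F g * ψ g = Nat.card G * ∑ C : ConjClasses G,
      F C.out * (ψ C.out / Nat.card (centralizer ({C.out} : Set G))) := by
  have e := sum_eq_sum_conjClasses (G := G) fun C => F C.out * ψ C.out
  have c : ∀ g : G, IsConj (ConjClasses.mk g).out g := fun g => isConj_out_iff'.2 rfl
  simp only [hF.eq_of_isConj (c _), hψ.eq_of_isConj (c _)] at e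
  rw [e, Finset.mul_sum]
  refine Finset.sum_congr rfl fun C _ => ?_
  rw [← (centralizer ({C.out} : Set G)).index_mul_card, Nat.cast_mul]
  have := card_ne_zero (centralizer ({C.out} : Set G))
  field_simp

open Classical in
/-- pairs of solutions of `x ^ 2 = 1` with product `g` -/
noncomputable def nn (g : G) : ℕ :=
  (Finset.univ.filter fun x : G => x * x = 1 ∧ x⁻¹ * g * (x⁻¹ * g) = 1).card

open Classical in
theorem nn_zero {g : G} (h : ¬ IsConj g g⁻¹) : nn g = 0 :=
  Finset.card_eq_zero.2 (Finset.filter_eq_empty_iff.2 fun x _ c => h (isConj_iff.2 ⟨x, by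
    calc _ = x * x * (x⁻¹ * g * (x⁻¹ * g)) * g⁻¹ := by group
      _ = _ := by rw [c.1, c.2]; group⟩))

theorem nn_real {k : Type*} [CommRing k] (h2 : (2 : k) = 0) {g : G} (h : IsConj g g⁻¹) :
    (nn g : k) = Nat.card (centralizer ({g} : Set G)) := by
  classical
  obtain ⟨y, hy⟩ := isConj_iff.1 h
  let J := Finset.univ.filter fun x : G => x * g * x⁻¹ = g⁻¹
  have e1 : J.card = Nat.card (centralizer ({g} : Set G)) := by
    rw [← Nat.card_eq_finsetCard]
    refine (Nat.card_congr (Equiv.subtypeEquiv (Equiv.mulLeft y) fun c => ?_)).symm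
    simp only [J, mem_centralizer_singleton_iff, Equiv.coe_mulLeft, Finset.mem_filter,
      Finset.mem_univ, true_and, ← hy]
    constructor
    · intro e
      calc _ = y * (c * g) * c⁻¹ * y⁻¹ := by group
        _ = _ := by rw [e]; group
    · intro e
      calc _ = y⁻¹ * (y * c * g * (y * c)⁻¹) * y * c := by group
        _ = _ := by rw [e]; group
  have e2 : nn g = (J.filter fun x => x * x = 1).card := by
    unfold nn
    congr 1
    ext x
    simp only [J, Finset.mem_filter, Finset.mem_univ, true_and]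
    constructor
    · refine fun c => ⟨?_, c.1⟩
      calc _ = x * x * (x⁻¹ * g * (x⁻¹ * g)) * g⁻¹ := by group
        _ = _ := by rw [c.1, c.2]; group
    · refine fun c => ⟨c.2, ?_⟩
      calc _ = (x * x)⁻¹ * (x * g * x⁻¹) * g := by group
        _ = _ := by rw [c.1, c.2]; group
  have e3 : ((J.filter fun x => ¬ x * x = 1).card : k) = 0 := by
    rw [Finset.card_eq_sum_ones, Nat.cast_sum]
    refine Finset.sum_involution (fun x _ => x⁻¹) (fun _ _ => by rw [Nat.cast_one, one_add_one_eq_two, h2])
      (fun x hx _ c => (Finset.mem_filter.1 hx).2 (by nth_rw 1 [← c]; exact inv_mul_cancel x))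
      (fun x hx => ?_) fun x _ => inv_inv x
    simp only [J, Finset.mem_filter, Finset.mem_univ, true_and] at hx ⊢
    refine ⟨?_, fun c => hx.2 (by rw [← inv_eq_one, mul_inv_rev, c])⟩
    calc _ = x⁻¹ * g⁻¹⁻¹ * x := by group
      _ = x⁻¹ * (x * g * x⁻¹)⁻¹ * x := by rw [hx.1]
      _ = _ := by group
  rw [← e1, ← Finset.card_filter_add_card_filter_not (fun x => x * x = 1), Nat.cast_add, e3, e2,
    add_zero]

open Classical in
/-- indicator of the solutions of `x ^ 2 = 1` -/
noncomputable def W (x : G) : ℂ := if x * x = 1 then 1 else 0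

omit [Fintype G] in
theorem W_cls : IsClassFunction G W := fun x k => by
  unfold W
  rw [conj_mul, conj_eq_one_iff]

theorem cv_W (g : G) : cv W W g = nn g := by
  classical
  unfold cv W nn
  rw [Finset.card_filter, Nat.cast_sum]
  refine Finset.sum_congr rfl fun x _ => ?_
  by_cases h1 : x * x = 1 <;> by_cases h2 : x⁻¹ * g * (x⁻¹ * g) = 1 <;> simp [h1, h2]

theorem nn_conj {g h : G} (c : IsConj g h) : nn g = nn h := by
  have := (cv_cls W_cls W_cls).eq_of_isConj c
  rwa [cv_W, cv_W, Nat.cast_inj] at this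

theorem core (hM : IsPModular 2 M) {ψ : G → ℂ} (hψ : IsClassFunction G ψ)
    (hr : ∀ g, MemLocalRing M (ψ g / Nat.card (centralizer ({g} : Set G))))
    {V : G → ℂ} (hV : IsClassFunction G V) (hV' : ∀ g, MemLocalIdeal M (V g))
    (e : ∑ g, V g * ψ g = ∑ g, cv W W g * ψ g) {n : ℤ}
    (hn : ∑ g, ψ g⁻¹ * ψ g = Nat.card G * n) : Even n := by
  classical
  have := Fintype.ofFinite (ConjClasses G)
  have := charP_kM hM
  have h2 : (2 : kM M) = 0 := CharP.cast_eq_zero (kM M) 2
  set r : G → ℂ := fun g => ψ g / Nat.card (centralizer ({g} : Set G)) with hr'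
  have r1 : ∀ g, vM M (r g) ≤ 1 := fun g => vM_le_one_of_memLocalRing hM (hr g)
  have cc : ∀ {g h : G}, IsConj g h → Nat.card (centralizer ({g} : Set G)) =
      Nat.card (centralizer ({h} : Set G)) := fun c => (card_centralizer_eq_of_isConj c).symm
  have rc : ∀ {g h : G}, IsConj g h → r g = r h := fun c => by
    simp only [r, hψ.eq_of_isConj c, cc c]
  have hi : IsClassFunction G fun g => ψ g⁻¹ := fun g k => by
    simp only [conj_inv, hψ g⁻¹ k]
  rw [sum_cls hV hψ, sum_cls (cv_cls W_cls W_cls) hψ] at e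
  rw [sum_cls hi hψ] at hn
  have e := mul_left_cancel₀ (card_ne_zero G) e
  have hn := mul_left_cancel₀ (card_ne_zero G) hn
  have n1 : ∀ m : ℕ, vM M (m : ℂ) ≤ 1 := fun m => vM_le_one_of_memLocalRing hM (ring_natCast hM m)
  have e1 : ∑ C : ConjClasses G, (nn C.out : kM M) * redM M (r C.out) = 0 := by
    have := redM_eq_zero_of_lt (vM_lt_one_of_memLocalIdeal hM (e ▸ ideal_sum hM Finset.univ
      fun (C : ConjClasses G) _ => ideal_mul_right hM (hV' C.out) (hr C.out)))
    simp only [cv_W] at this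
    refine Eq.trans (Finset.sum_congr rfl fun C _ => ?_) ((redM_sum
      (f := fun C : ConjClasses G => (nn C.out : ℂ) * r C.out) fun C _ =>
        vM_le_one_of_memLocalRing hM (ring_mul hM (ring_natCast hM _) (hr _))).symm.trans this)
    rw [redM_mul (n1 _) (r1 _), redM_natCast]
  have e2 : ∀ g, ψ g⁻¹ = Nat.card (centralizer ({g} : Set G)) * r g⁻¹ := fun g => by
    have := card_ne_zero (centralizer ({g} : Set G))
    simp only [r, centralizer_singleton_inv]
    field_simp
  have e3 : ∑ C : ConjClasses G, (Nat.card (centralizer ({C.out} : Set G)) : kM M) *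
      redM M (r C.out⁻¹) * redM M (r C.out) = n := by
    rw [← redM_intCast, ← hn]
    refine Eq.trans (Finset.sum_congr rfl fun C _ => ?_) (redM_sum
      (f := fun C : ConjClasses G => ψ C.out⁻¹ * r C.out) fun C _ => vM_le_one_of_memLocalRing hM
        (ring_mul hM (e2 _ ▸ ring_mul hM (ring_natCast hM _) (hr _)) (hr _))).symm
    rw [e2, redM_mul (vM_le_one_of_memLocalRing hM (ring_mul hM (ring_natCast hM _) (hr _))) (r1 _),
      redM_mul (n1 _) (r1 _), redM_natCast]
  by_contra ne
  obtain ⟨g, g1, g2⟩ := exists_real_of_sum_ne_zero h2 (fun g : G =>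
    (Nat.card (centralizer ({g} : Set G)) : kM M) * redM M (r g⁻¹) * redM M (r g) -
      (nn g * redM M (r g)) ^ 2) (fun g h c => by
        have c' : IsConj g⁻¹ h⁻¹ := by
          obtain ⟨k, rfl⟩ := isConj_iff.1 c
          exact isConj_iff.2 ⟨k, by group⟩
        simp only [cc c, rc c, rc c', nn_conj c]) (fun g => by
        simp only [centralizer_singleton_inv, inv_inv]
        congr 1
        · ring
        · by_cases c : IsConj g g⁻¹
          · rw [← nn_conj c, ← rc c]
          · rw [nn_zero c, nn_zero fun c' => c (by rw [inv_inv] at c'; exact c'.symm)]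
            simp) (by
        rw [Finset.sum_sub_distrib, e3, ← sum_pow_char 2, e1, zero_pow two_ne_zero, sub_zero, Ne,
          CharP.intCast_eq_zero_iff (kM M) 2]
        exact fun c => ne (even_iff_two_dvd.2 c))
  refine g1 ?_
  have := map_natCast (frobenius (kM M) 2) (Nat.card (centralizer ({g} : Set G)))
  rw [frobenius_def] at this
  rw [nn_real h2 g2, ← rc g2, mul_pow, this]
  ring

end ThA

open ThA

variable {G : Type*} [Group G] [Finite G] {M : Ideal AlgInt} {B : Set (IrrCharacter G)}
  {D : Subgroup G}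

/-- A generalized character of a 2-block with nontrivial elementary abelian defect group which
vanishes on the 2-singular elements has an even sum of coefficients. -/
theorem even_sum (hM : IsPModular 2 M) (hB : IsPBlock M B) (hD : IsDefectGroup 2 M B D)
    (h1 : D ≠ ⊥) (he : ∀ x ∈ D, x * x = 1) (a : IrrCharacter G → ℤ)
    (h0 : ∀ g : G, 2 ∣ orderOf g → ∑ χ ∈ irrFin B, (a χ : ℂ) * (χ : G → ℂ) g = 0) :
    Even (∑ χ ∈ irrFin B, a χ) := by
  classical
  have := Fintype.ofFinite G
  obtain ⟨P⟩ : Nonempty (Sylow 2 G) := inferInstance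
  have := Fintype.ofFinite (P : Subgroup G)
  have cU := isClassFunction_pInd (G := G) 2
  have ce := Ht.isClassFunction_blockCoeff B
  have u1 : ∀ χ ∈ B, MemLocalIdeal M (om (χ : G → ℂ) (pInd 2)) := fun χ hχ => by
    obtain ⟨ξ, hξ, e⟩ := exists_eq_minVal 2 ⟨χ, hχ⟩
    rw [ideal_iff_of_sub hM (ideal_om_sub_om hM χ.2.isClassFunction ξ.2.isClassFunction
      (Ht.sameBlock_of_mem hM hB hχ hξ) cU (ring_pInd hM))]
    have c : IsCharacter G (indFun (P : Subgroup G) fun _ => 1) :=
      isCharacter_indFun_one _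
    have i1 := ideal_om hM ξ.2 (a := indFun (P : Subgroup G) (fun _ => 1) -
      ((P : Subgroup G).index : ℂ) • pInd 2) (fun g k => by
        simp only [Pi.sub_apply, Pi.smul_apply, c.isClassFunction g k, cU g k])
      (ideal_indFun_sylow_sub hM P)
    rw [om_sub, om_smul] at i1
    rw [← ideal_mul_unit_iff hM (ring_natCast hM (P : Subgroup G).index)
      (by rw [ideal_natCast_iff hM]; exact P.not_dvd_index), ← ideal_iff_of_sub hM i1,
      om_eq_classInner, mul_div_right_comm, ← cast_charDegree_irr]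
    refine ideal_mul_right hM ((ideal_natCast_div_iff hM Nat.card_pos.ne'
      (irr_charDegree_ne_zero ξ)).2 ?_) (by
        obtain ⟨m, e⟩ := ξ.2.isCharacter.exists_nat_classInner c.conj
        exact e ▸ ring_natCast hM m)
    have := blockDefect_add_minVal 2 ⟨χ, hχ⟩
    have := (blockDefect_eq_zero_iff hM hB hD).not.2 h1
    omega
  have u2 : ∀ χ ∈ B, om (χ : G → ℂ) (pInd 2) = om (χ : G → ℂ) W := fun χ hχ => by
    rw [om_eq, om_eq]
    congr 1
    refine Finset.sum_congr rfl fun g _ => ?_
    unfold W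
    split_ifs with c
    · rw [pInd_of_pElem ((Nat.dvd_prime_pow Nat.prime_two (m := 1)).1
        (orderOf_dvd_of_pow_eq_one (by simpa [sq] using c)) |>.imp fun _ h => h.2)]
    · by_cases c2 : ∃ k, orderOf g = 2 ^ k
      · rw [Cfsg.Agent.S0924.result 2 M hM χ g g ⟨1, mul_one g, Commute.one_right g, c2, by simp⟩
          fun E hE hg => c ?_, mul_zero, mul_zero]
        obtain ⟨x, rfl⟩ := defect_exists_conj hM hB (Ht.eq_blockOf_of_mem hM hB hχ ▸ hE) hD
        obtain ⟨y, hy, rfl⟩ := hg
        rw [← map_mul, he y hy, map_one]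
      · rw [pInd_of_not_pElem c2]
  have cw := cv_cls ce cU
  have rw' : ∀ x, MemLocalRing M (cv (blockCoeff B) (pInd 2) x) := fun x =>
    ring_sum hM _ fun g _ => ring_mul hM (memLocalRing_blockCoeff hM hB g) (ring_pInd hM _)
  have cψ : IsClassFunction G fun g => ∑ χ ∈ irrFin B, (a χ : ℂ) * (χ : G → ℂ) g := fun g k => by
    simp only [fun χ : IrrCharacter G => χ.2.isClassFunction g k]
  have ev : ∀ F : G → ℂ, ∑ g, F g * ∑ χ ∈ irrFin B, (a χ : ℂ) * (χ : G → ℂ) g =
      ∑ χ ∈ irrFin B, a χ * (om (χ : G → ℂ) F * (χ : G → ℂ) 1) := fun F => by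
    simp only [Finset.mul_sum]
    rw [Finset.sum_comm]
    refine Finset.sum_congr rfl fun χ _ => ?_
    rw [om_eq, div_mul_cancel₀ _ χ.2.apply_one_ne_zero, Finset.mul_sum]
    exact Finset.sum_congr rfl fun g _ => by ring
  have := core hM cψ (ring_div_card_centralizer hM _ (fun χ _ => ring_intCast hM (a χ))
    (fun χ _ => χ.2.isCharacter.isGeneralizedCharacter) h0) (cv_cls cw cU) (fun g => by
      have := ideal_sum_mul_pInd hM cw rw' (fun χ => by
        rw [om_cv χ.2 ce]
        by_cases c : χ ∈ B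
        · rw [om_blockCoeff_of_mem c, one_mul]; exact u1 χ c
        · rw [om_blockCoeff_of_notMem c, zero_mul]; exact ideal_zero hM) g⁻¹
      rw [cv, Finset.sum_congr rfl fun x _ => (by
        rw [← pInd_inv, ← cU _ g]
        congr 2
        group : _ = cv (blockCoeff B) (pInd 2) x * pInd 2 (x * g⁻¹))]
      exact this) (by
      rw [ev, ev]
      refine Finset.sum_congr rfl fun χ hχ => ?_
      rw [mem_irrFin] at hχ
      rw [om_cv χ.2 cw, om_cv χ.2 ce, om_cv χ.2 W_cls, om_blockCoeff_of_mem hχ, one_mul, u2 χ hχ])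
    (n := ∑ χ ∈ irrFin B, a χ * a χ) (by
      have e := classInner_sum_int_coeff (fun χ : IrrCharacter G => if χ ∈ B then a χ else 0)
        (fun χ : IrrCharacter G => if χ ∈ B then a χ else 0)
      have e1 : (∑ χ : IrrCharacter G, ((if χ ∈ B then a χ else 0 : ℤ) : ℂ) • (χ : G → ℂ)) =
          fun g => ∑ χ ∈ irrFin B, (a χ : ℂ) * (χ : G → ℂ) g := funext fun g => by
        rw [Finset.sum_apply, sum_irrFin_eq_sum_ite]
        exact Finset.sum_congr rfl fun χ _ => by split_ifs <;> simp
      rw [sum_irrFin_eq_sum_ite, show (∑ χ : IrrCharacter G, if χ ∈ B then a χ * a χ else 0) = _ from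
        Finset.sum_congr rfl fun χ _ => (by split_ifs <;> simp :
          _ = (if χ ∈ B then a χ else 0) * if χ ∈ B then a χ else 0), ← e, e1, card_mul_classInner]
      refine Finset.sum_congr rfl fun g _ => ?_
      rw [mul_comm, map_sum]
      congr 1
      exact Finset.sum_congr rfl fun χ _ => by
        rw [map_mul, map_intCast, χ.2.isCharacter.apply_inv])
  rw [← Int.even_sub.1 (Finset.sum_sub_distrib (s := irrFin B) (fun χ => a χ * a χ) a ▸
    Finset.even_sum _ fun χ _ => by
      rw [← mul_sub_one]; exact Int.even_mul_pred_self _)]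
  exact this

end Cfsg.Lib.KKL
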