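import Cfsg.Agent.KKL.Defs
import Cfsg.Agent.Block.LocalRing

/-! Tower KKL (statement S4546): the prime `2` is unramified in odd cyclotomic fields. -/

set_option autoImplicit false

open Cfsg Cfsg.Lib Cfsg.Lib.Char Cfsg.Lib.Block MulAction

namespace Cfsg.Lib.KKL

namespace UnrH

theorem intg {n : ℕ} (hn : n ≠ 0) {x : ℂ} (hx : x ∈ Subring.closure {z : ℂ | z ^ n = 1}) :
    IsIntegral ℤ x := by
  induction hx using Subring.closure_induction with
  | mem z hz => exact IsIntegral.of_pow (Nat.pos_of_ne_zero hn) (by rw [hz]; exact isIntegral_one)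
  | zero => exact isIntegral_zero
  | one => exact isIntegral_one
  | add a b _ _ ha hb => exact ha.add hb
  | neg a _ ha => exact ha.neg
  | mul a b _ _ ha hb => exact ha.mul hb

theorem frob {n k : ℕ} (hk : ∀ z : ℂ, z ^ n = 1 → z ^ 2 ^ (k + 1) = z) {x : ℂ}
    (hx : x ∈ Subring.closure {z : ℂ | z ^ n = 1}) :
    ∃ y ∈ Subring.closure {z : ℂ | z ^ n = 1}, x ^ 2 ^ (k + 1) = x + 2 * y := by
  set R := Subring.closure {z : ℂ | z ^ n = 1}
  have h2 : (2 : ℂ) ∈ R := by exact_mod_cast natCast_mem R 2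
  induction hx using Subring.closure_induction with
  | mem z hz => exact ⟨0, R.zero_mem, by rw [hk z hz]; simp⟩
  | zero => exact ⟨0, R.zero_mem, by simp⟩
  | one => exact ⟨0, R.zero_mem, by simp⟩
  | add a b ma mb ha hb =>
    obtain ⟨y, hy, e1⟩ := ha
    obtain ⟨y', hy', e2⟩ := hb
    obtain ⟨r, hr⟩ := exists_add_pow_prime_pow_eq Nat.prime_two (⟨a, ma⟩ : R) ⟨b, mb⟩ (k + 1)
    have hr' : (a + b) ^ 2 ^ (k + 1) = a ^ 2 ^ (k + 1) + b ^ 2 ^ (k + 1) + 2 * a * b * r := by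
      have := congrArg R.subtype hr
      simp only [map_add, map_mul, map_pow, map_natCast] at this
      exact_mod_cast this
    refine ⟨y + y' + a * b * r, R.add_mem (R.add_mem hy hy') (R.mul_mem (R.mul_mem ma mb) r.2), ?_⟩
    rw [hr', e1, e2]; ring
  | neg a ma ha =>
    obtain ⟨y, hy, e1⟩ := ha
    refine ⟨y + a, R.add_mem hy ma, ?_⟩
    rw [Even.neg_pow (by rw [pow_succ]; exact even_two.mul_left _), e1]; ring
  | mul a b ma mb ha hb =>
    obtain ⟨y, hy, e1⟩ := ha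
    obtain ⟨y', hy', e2⟩ := hb
    refine ⟨a * y' + y * b + 2 * y * y', R.add_mem (R.add_mem (R.mul_mem ma hy') (R.mul_mem hy mb))
      (R.mul_mem (R.mul_mem h2 hy) hy'), ?_⟩
    rw [mul_pow, e1, e2]; ring

theorem pw {M : Ideal AlgInt} (hM : IsPModular 2 M) {n : ℕ} (hn : Odd n) {x : ℂ}
    (hx : x ∈ Subring.closure {z : ℂ | z ^ n = 1}) (h0 : x ≠ 0) :
    ∃ i : ℕ, vM M x = vM M ((2 : ℕ) : ℂ) ^ i := by
  have n0 : n ≠ 0 := hn.pos.ne'
  have v2 := vM_p_lt_one hM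
  have v0 := vM_p_pos hM
  obtain ⟨k, hk⟩ : ∃ k, ∀ z : ℂ, z ^ n = 1 → z ^ 2 ^ (k + 1) = z := by
    obtain ⟨k, hk⟩ : ∃ k, n.totient = k + 1 :=
      Nat.exists_eq_succ_of_ne_zero (Nat.totient_pos.2 hn.pos).ne'
    refine ⟨k, fun z hz => ?_⟩
    have h1 := Nat.ModEq.pow_totient (Nat.coprime_two_left.2 hn)
    rw [hk] at h1
    obtain ⟨c, hc⟩ := (Nat.modEq_iff_dvd' (Nat.one_le_two_pow)).1 h1.symm
    have : 2 ^ (k + 1) = n * c + 1 := by
      have := Nat.one_le_two_pow (n := k + 1)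
      omega
    rw [this, pow_succ, pow_mul, hz, one_pow, one_mul]
  obtain ⟨j, hj⟩ : ∃ j : ℕ, vM M ((2 : ℕ) : ℂ) ^ j ≤ vM M x := by
    obtain ⟨y, y0, hy⟩ := (intg n0 hx).isAlgebraic.inv.exists_integral_multiple
    have h1 := vM_le_one_of_isIntegral (M := M) hy
    refine ⟨y.natAbs.factorization 2, ?_⟩
    rw [← vM_natCast hM (Int.natAbs_ne_zero.2 y0)]
    have h2 : vM M ((y.natAbs : ℕ) : ℂ) = vM M (y : ℂ) := by
      rcases Int.natAbs_eq y with h | h
      · conv_rhs => rw [h]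
        simp
      · conv_rhs => rw [h]
        simp
    rw [h2, show (y : ℂ) = (y • x⁻¹) * x by rw [zsmul_eq_mul]; field_simp, map_mul]
    exact mul_le_of_le_one_left' h1
  induction j generalizing x with
  | zero => exact ⟨0, le_antisymm (by simpa using vM_le_one_of_isIntegral (intg n0 hx)) hj⟩
  | succ j ih =>
    by_cases h1 : vM M x < 1
    · obtain ⟨y, hy, e⟩ := frob hk hx
      have x0 : 0 < vM M x := zero_lt_iff.2 (by simpa using h0)
      have h2 : vM M (x ^ 2 ^ (k + 1)) < vM M x := by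
        rw [map_pow]
        exact pow_lt_self_of_lt_one₀ x0 h1 (Nat.one_lt_two_pow (by omega))
      have h3 : vM M x = vM M ((2 : ℕ) : ℂ) * vM M y := by
        rw [← map_mul, show ((2 : ℕ) : ℂ) * y = x ^ 2 ^ (k + 1) - x by rw [e]; push_cast; ring,
          Valuation.map_sub_eq_of_lt_right _ h2]
      have y0 : y ≠ 0 := fun h => by
        rw [h, map_zero, mul_zero] at h3
        exact x0.ne' h3
      obtain ⟨i, hi⟩ := ih hy y0 (by
        rw [h3, pow_succ'] at hj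
        exact le_of_mul_le_mul_of_pos_left hj v0)
      exact ⟨i + 1, by rw [h3, hi, pow_succ']⟩
    · exact ⟨0, by
        rw [pow_zero]
        exact (vM_eq_one_iff_not_lt (vM_le_one_of_isIntegral (intg n0 hx))).2 h1⟩

end UnrH

theorem unr {M : Ideal AlgInt} (hM : IsPModular 2 M) {n : ℕ} (hn : Odd n) {w : ℂ}
    (hw : IsIntegral ℚ w) (hσ : ∀ σ, Fx n σ → σ w = w) : vM M w ^ 2 ≠ vM M 2 := by
  intro h
  have v0 := vM_p_pos hM
  set F := Subfield.closure {z : ℂ | z ^ n = 1}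
  obtain ⟨f, hf⟩ := mem_range_algebraMap_of_forall_ringEquiv (F := F) (E := ℂ) (x := w)
    hw.tower_top fun σ h => hσ σ fun z hz => h ⟨z, Subfield.subset_closure hz⟩
  obtain ⟨a, ha, b, hb, e⟩ := Subfield.mem_closure_iff.1 f.2
  have e' : a / b = w := e.trans hf
  have h' : vM M w ^ 2 = vM M ((2 : ℕ) : ℂ) := by exact_mod_cast h
  have w0 : w ≠ 0 := fun h0 => by
    rw [h0, map_zero, zero_pow two_ne_zero] at h'
    exact v0.ne h'
  have a0 : a ≠ 0 := fun h0 => w0 (by rw [← e', h0, zero_div])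
  have b0 : b ≠ 0 := fun h0 => w0 (by rw [← e', h0, div_zero])
  obtain ⟨i, hi⟩ := UnrH.pw hM hn ha a0
  obtain ⟨j, hj⟩ := UnrH.pw hM hn hb b0
  have h1 : vM M a = vM M w * vM M b := by rw [← map_mul, ← e', div_mul_cancel₀ _ b0]
  have h2 : vM M ((2 : ℕ) : ℂ) ^ (i * 2) = vM M ((2 : ℕ) : ℂ) ^ (j * 2 + 1) := by
    rw [pow_mul, ← hi, h1, mul_pow, h', hj, ← pow_mul, pow_succ']
  have := (vM_p_pow_inj hM).1 h2
  omega

end Cfsg.Lib.KKL
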